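import Cfsg.Agent.Lib.BlockHeights.PConstrainedCores
import Mathlib.GroupTheory.SchurZassenhaus

/-!
# Subgroups of `p'`-order and `p`-power index in `p`-soluble groups
-/

set_option autoImplicit false
set_option linter.unusedSectionVars false
set_option linter.style.haveILetI false

namespace Cfsg.Agent.Lib.Harada

open Cfsg

universe u

variable {p : ℕ} [hp : Fact p.Prime]

theorem relIndex_inf_dvd {G : Type u} [Group G] {A B : Subgroup G} [A.Normal] (hAB : A ≤ B)
    (T : Subgroup G) : A.relIndex (B ⊓ T) ∣ A.relIndex B := by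
  rw [← Subgroup.relIndex_sup_right (B ⊓ T) A]
  have h : B ⊓ T ⊔ A ≤ B := sup_le inf_le_left hAB
  exact Dvd.intro _ (Subgroup.relIndex_mul_relIndex A _ B le_sup_right h)

theorem relIndex_subgroupOf_dvd {G : Type u} [Group G] {A B : Subgroup G} [A.Normal] (hAB : A ≤ B)
    (T : Subgroup G) : (A.subgroupOf T).relIndex (B.subgroupOf T) ∣ A.relIndex B := by
  rw [← Subgroup.inf_subgroupOf_right B T, Subgroup.relIndex_subgroupOf inf_le_right]
  exact relIndex_inf_dvd hAB T

theorem pFactor_of_dvd {a b : ℕ} (hd : a ∣ b) (h : (∃ m, b = p ^ m) ∨ b.Coprime p) :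
    (∃ m, a = p ^ m) ∨ a.Coprime p := by
  rcases h with ⟨m, rfl⟩ | h
  · obtain ⟨j, -, hj⟩ := (Nat.dvd_prime_pow hp.out).mp hd
    exact Or.inl ⟨j, hj⟩
  · exact Or.inr (Nat.Coprime.coprime_dvd_left hd h)

theorem isPSolvable_subgroup {G : Type u} [Group G] [Finite G] (h : IsPSolvable p G)
    (S : Subgroup G) : IsPSolvable p S := by
  obtain ⟨n, H, h0, h1, hm, hn, hf⟩ := h
  refine ⟨n, fun i => (H i).subgroupOf S, by simp only [h0, Subgroup.bot_subgroupOf],
    by simp only [h1, Subgroup.top_subgroupOf], fun i j hij => Subgroup.subgroupOf_mono S (hm hij),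
    fun i => by haveI := hn i; infer_instance, fun i => ?_⟩
  haveI := hn i.castSucc
  exact pFactor_of_dvd (relIndex_subgroupOf_dvd (hm Fin.castSucc_lt_succ.le) S) (hf i)

/-- A `p`-soluble group has a subgroup of order prime to `p` and of `p`-power index. -/
theorem exists_pPrime_hall {G : Type u} [Group G] [Finite G] (h : IsPSolvable p G) :
    ∃ K : Subgroup G, ¬ p ∣ Nat.card K ∧ ∃ a, K.index = p ^ a := by
  suffices key : ∀ (n : ℕ) (A : Type u) [Group A] [Finite A], Nat.card A = n → IsPSolvable p A →
      ∃ K : Subgroup A, ¬ p ∣ Nat.card K ∧ ∃ a, K.index = p ^ a from key _ G rfl h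
  intro n
  induction n using Nat.strongRecOn with
  | ind n ih =>
    intro A _ _ hA hsol
    by_cases hN : ∃ N : Subgroup A, N.Normal ∧ N ≠ ⊥ ∧
        ((∃ m, Nat.card N = p ^ m) ∨ (Nat.card N).Coprime p)
    · obtain ⟨N, hNn, hN1, hNf⟩ := hN
      haveI := hNn
      have hlt : Nat.card (A ⧸ N) < n := by
        rw [← hA, Subgroup.card_eq_card_quotient_mul_card_subgroup N]
        exact lt_mul_of_one_lt_right Nat.card_pos (Subgroup.one_lt_card_iff_ne_bot N |>.2 hN1)
      obtain ⟨Kb, hKb, a, ha⟩ := ih _ hlt (A ⧸ N) rfl (BlockHeights.isPSolvable_quot N hsol)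
      set X := Kb.comap (QuotientGroup.mk' N) with hX
      have hXi : X.index = p ^ a :=
        (Subgroup.index_comap_of_surjective _ (QuotientGroup.mk'_surjective N)).trans ha
      have hNX : N ≤ X := fun x hx => by
        rw [hX, Subgroup.mem_comap, QuotientGroup.mk'_apply, (QuotientGroup.eq_one_iff x).2 hx]
        exact one_mem Kb
      have hXc : N.relIndex X = Nat.card Kb := by
        have h1 := Subgroup.relIndex_comap ⊥ (QuotientGroup.mk' N) X
        rw [MonoidHom.comap_bot, QuotientGroup.ker_mk', Subgroup.relIndex_bot_left] at h1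
        rw [h1, hX, Subgroup.map_comap_eq_self_of_surjective (QuotientGroup.mk'_surjective N)]
      have hmul : Nat.card N * N.relIndex X = Nat.card X := by
        have := Subgroup.relIndex_mul_relIndex ⊥ N X bot_le hNX
        rwa [Subgroup.relIndex_bot_left, Subgroup.relIndex_bot_left] at this
      rcases hNf with ⟨m, hm⟩ | hc
      · have hcop : Nat.Coprime (Nat.card (N.subgroupOf X)) (N.subgroupOf X).index := by
          rw [Nat.card_congr (Subgroup.subgroupOfEquivOfLe hNX).toEquiv, hm]
          show Nat.Coprime (p ^ m) (N.relIndex X)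
          rw [hXc]
          exact Nat.Coprime.pow_left m (hp.out.coprime_iff_not_dvd.2 hKb)
        obtain ⟨C, hC⟩ := Subgroup.exists_right_complement'_of_coprime hcop
        have hCcard : Nat.card C = Nat.card Kb := by
          rw [← hC.symm.index_eq_card]; exact hXc
        refine ⟨C.map X.subtype, ?_, a + m, ?_⟩
        · rw [Subgroup.card_map_of_injective X.subtype_injective, hCcard]
          exact hKb
        · have h1 : C.index = p ^ m := by
            rw [hC.index_eq_card, Nat.card_congr (Subgroup.subgroupOfEquivOfLe hNX).toEquiv,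
              hm]
          have h2 := Subgroup.relIndex_mul_index (Subgroup.map_subtype_le C : C.map X.subtype ≤ X)
          rw [Subgroup.relIndex, Subgroup.subgroupOf,
            Subgroup.comap_map_eq_self_of_injective X.subtype_injective, h1, hXi] at h2
          rw [← h2, pow_add, mul_comm]
      · refine ⟨X, ?_, a, hXi⟩
        rw [← hmul, hXc]
        exact fun hd => (hp.out.dvd_mul.1 hd).elim
          (fun h' => (hp.out.coprime_iff_not_dvd.1 hc.symm) h') hKb
    · obtain ⟨k, H, h0, h1, hm, hn, hf⟩ := hsol
      have hall : ∀ i, H i = ⊥ := by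
        intro i
        induction i using Fin.induction with
        | zero => exact h0
        | succ i ih' =>
          by_contra hne
          refine hN ⟨H i.succ, hn _, hne, ?_⟩
          have := hf i
          rwa [ih', Subgroup.relIndex_bot_left] at this
      refine ⟨⊤, ?_, 0, by simp⟩
      have h2 : (⊤ : Subgroup A) = ⊥ := h1 ▸ hall _
      rw [h2, Subgroup.card_bot]
      exact fun hd => hp.out.one_lt.ne' (Nat.dvd_one.1 hd)

end Cfsg.Agent.Lib.Harada
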