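import Cfsg.Agent.Lib.Harada.Limit
import Cfsg.Agent.Lib.Characters.Gallagher

/-!
# The component of a character over an invariant character of a normal subgroup
-/

set_option autoImplicit false
set_option linter.unusedSectionVars false
set_option linter.style.haveILetI false

namespace Cfsg.Agent.Lib.Harada

open Cfsg Cfsg.Agent.Lib.Characters Cfsg.Agent.Lib.Blocks MonoidAlgebra
open scoped ComplexConjugate

universe u

variable {G : Type u} [Group G] [Fintype G] (N : Subgroup G) [Fintype N]

/-- `χ` lies over `θ`. -/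
def Over (θ : N → ℂ) (χ : G → ℂ) : Prop := classInner (fun n : N => χ n) θ ≠ 0

open Classical in
/-- The weighted sum of a set of characters over `θ`. -/
noncomputable def wsum [Fintype (IrrCharacter G)] (θ : N → ℂ) (U : Set (IrrCharacter G)) (g : G) :
    ℂ :=
  ∑ χ : IrrCharacter G, if χ ∈ U ∧ Over N θ (χ : G → ℂ) then (χ : G → ℂ) 1 * (χ : G → ℂ) g else 0

/-- The idempotent coefficient of a single character. -/
noncomputable def coef (θ : IrrCharacter N) (n : N) : ℂ :=
  (Nat.card N : ℂ)⁻¹ * ((θ : N → ℂ) 1 * conj ((θ : N → ℂ) n))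

theorem coef_eq_blockCoeff (θ : IrrCharacter N) :
    coef N θ = blockCoeff ({θ} : Set (IrrCharacter N)) := by
  funext n; rw [blockCoeff_singleton]; rfl

theorem isClassFunction_coef (θ : IrrCharacter N) : IsClassFunction N (coef N θ) := by
  rw [coef_eq_blockCoeff]; exact isClassFunction_blockCoeff _

theorem sum_coef_mul (θ : IrrCharacter N) (F : N → ℂ) :
    ∑ n, coef N θ n * F n = (θ : N → ℂ) 1 * classInner F (θ : N → ℂ) := by
  simp only [coef, classInner, Finset.mul_sum]
  exact Finset.sum_congr rfl fun n _ => by ring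

/-- An irreducible character over an invariant character is a multiple of it there. -/
theorem Over.restrict [N.Normal] {θ : IrrCharacter N}
    (hinv : ∀ g : G, conjFun N g (θ : N → ℂ) = (θ : N → ℂ)) {χ : G → ℂ}
    (hχ : IsIrrCharacter G χ) (h : Over N (θ : N → ℂ) χ) :
    (fun n : N => χ n) = classInner (fun n : N => χ n) (θ : N → ℂ) • (θ : N → ℂ) :=
  restrict_eq_smul_of_invariant N hχ θ.2 hinv h

open Classical in
/-- The component of an irreducible character. -/
theorem sum_coef_mul_translate [N.Normal] {θ : IrrCharacter N}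
    (hinv : ∀ g : G, conjFun N g (θ : N → ℂ) = (θ : N → ℂ)) {χ : G → ℂ}
    (hχ : IsIrrCharacter G χ) (g : G) :
    ∑ n : N, coef N θ n * χ ((n : G) * g) = if Over N (θ : N → ℂ) χ then χ g else 0 := by
  let F : G → ℂ := fun x => if hx : x ∈ N then coef N θ ⟨x, hx⟩ else 0
  have hF : IsClassFunction G F := by
    intro x h
    simp only [F]
    by_cases hx : x ∈ N
    · rw [dif_pos hx, dif_pos (Subgroup.Normal.conj_mem inferInstance _ hx h)]
      have h1 := congrFun (hinv h) ⟨x, hx⟩
      simp only [coef]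
      rw [show (θ : N → ℂ) ⟨h * x * h⁻¹, _⟩ = (θ : N → ℂ) ⟨x, hx⟩ from h1]
    · rw [dif_neg hx, dif_neg fun hh => hx ?_]
      have := Subgroup.Normal.conj_mem inferInstance _ hh h⁻¹
      simpa [mul_assoc] using this
  have hsum : ∀ f : G → ℂ, ∑ x, F x * f x = ∑ n : N, coef N θ n * f n := by
    intro f
    rw [← Finset.sum_filter_add_sum_filter_not Finset.univ (fun x => x ∈ N),
      Finset.sum_eq_zero (s := Finset.univ.filter fun x => x ∉ N) (fun x hx => by
        simp [F, (Finset.mem_filter.1 hx).2]), add_zero]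
    refine (Finset.sum_bij (fun (n : N) _ => (n : G)) (fun n _ => by simp)
      (fun a _ b _ h => Subtype.ext h)
      (fun b hb => ⟨⟨b, (Finset.mem_filter.mp hb).2⟩, Finset.mem_univ _, rfl⟩) fun n _ => ?_).symm
    simp [F]
  have h := sum_mul_char_mul hχ hF g
  rw [hsum] at h
  rw [h, omega, hsum, sum_coef_mul]
  split_ifs with ho
  · have h1 := congrFun (Over.restrict N hinv hχ ho) 1
    simp only [OneMemClass.coe_one, Pi.smul_apply, smul_eq_mul] at h1
    rw [mul_comm ((θ : N → ℂ) 1), ← h1, div_self (IsIrrCharacter.apply_one_ne_zero hχ), one_mul]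
  · rw [Over, not_not] at ho
    rw [ho, mul_zero, zero_div, zero_mul]

open Classical in
/-- The component of a class function. -/
theorem sum_coef_mul_classFun [N.Normal] [Fintype (IrrCharacter G)] {θ : IrrCharacter N}
    (hinv : ∀ g : G, conjFun N g (θ : N → ℂ) = (θ : N → ℂ)) {F : G → ℂ}
    (hF : IsClassFunction G F) (g : G) :
    ∑ n : N, coef N θ n * F ((n : G) * g) = ∑ χ : IrrCharacter G,
      if Over N (θ : N → ℂ) (χ : G → ℂ) then classInner F (χ : G → ℂ) * (χ : G → ℂ) g else 0 := by
  have hd := eq_sum_classInner hF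
  calc ∑ n : N, coef N θ n * F ((n : G) * g)
      = ∑ n : N, coef N θ n *
          ∑ χ : IrrCharacter G, classInner F (χ : G → ℂ) * (χ : G → ℂ) ((n : G) * g) := by
        refine Finset.sum_congr rfl fun n _ => ?_
        conv_lhs => rw [congrFun hd ((n : G) * g)]
        simp [Finset.sum_apply]
    _ = ∑ χ : IrrCharacter G, classInner F (χ : G → ℂ) *
          ∑ n : N, coef N θ n * (χ : G → ℂ) ((n : G) * g) := by
        simp only [Finset.mul_sum]
        rw [Finset.sum_comm]
        exact Finset.sum_congr rfl fun χ _ => Finset.sum_congr rfl fun n _ => by ring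
    _ = _ := Finset.sum_congr rfl fun χ _ => by
        rw [sum_coef_mul_translate N hinv χ.2]
        split_ifs <;> ring

theorem regMod_mono {p : ℕ} {L P : Subgroup G} (hLP : L ≤ P) {x : G} (h : RegMod p L x) :
    RegMod p P x := by
  obtain ⟨m, hm, hx⟩ := h
  exact ⟨m, hm, hLP hx⟩

theorem regMod_mul_mem {p : ℕ} {P : Subgroup G} [P.Normal] {n x : G} (hn : n ∈ P) :
    RegMod p P (n * x) ↔ RegMod p P x := by
  have key : ((n * x : G) : G ⧸ P) = (x : G ⧸ P) := by
    rw [QuotientGroup.mk_mul, (QuotientGroup.eq_one_iff n).2 hn, one_mul]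
  simp only [RegMod, ← QuotientGroup.eq_one_iff, QuotientGroup.mk_pow, key]

theorem regMod_mul_self {p : ℕ} (L : Subgroup G) [L.Normal] {n x : G} (hn : n ∈ L) :
    RegMod p L (n * x) ↔ RegMod p L x :=
  regMod_mul_mem hn

theorem regMod_one (p : ℕ) (hp : p.Prime) (L : Subgroup G) : RegMod p L (1 : G) :=
  ⟨1, fun h => hp.one_lt.ne' (Nat.dvd_one.1 h), by simp⟩

end Cfsg.Agent.Lib.Harada
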