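import Cfsg.Agent.Lib.Characters.Gallagher
import Cfsg.Agent.Lib.Characters.ExtensionChar
import Cfsg.Agent.Lib.Characters.Integrality
import Mathlib.LinearAlgebra.Determinant

/-!
# Characters irreducible on `p'`-Hall subgroups

`GoodChar p η`: `η` stays irreducible on every subgroup of `p'`-order and `p`-power index, and the
determinant of `η` is trivial on `p`-elements.
-/

set_option autoImplicit false
set_option linter.unusedSectionVars false
set_option linter.style.haveILetI false

namespace Cfsg.Agent.Lib.Harada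

open Cfsg Cfsg.Agent.Lib.Characters
open scoped ComplexConjugate Pointwise

universe u

/-- `η` stays irreducible on `p'`-Hall subgroups and has `p'`-determinant. -/
def GoodChar (p : ℕ) {A : Type u} [Group A] (η : A → ℂ) : Prop :=
  (∀ K : Subgroup A, ¬ p ∣ Nat.card K → (∃ a, K.index = p ^ a) →
      IsIrrCharacter K fun k : K => η k) ∧
    ∀ v : A, (∃ a, v ^ p ^ a = 1) → detChar η v = 1

variable {A : Type u} [Group A] [Finite A] {p : ℕ}

theorem GoodChar.comp_equiv {B : Type u} [Group B] [Finite B] {η : A → ℂ} (hη : IsCharacter A η)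
    (h : GoodChar p η) (e : B ≃* A) : GoodChar p (η ∘ e) := by
  refine ⟨fun K hK ⟨a, ha⟩ => ?_, fun v ⟨a, ha⟩ => ?_⟩
  · have he : Function.Injective e.toMonoidHom := e.injective
    have h1 := h.1 (K.map e.toMonoidHom)
      (by rwa [Subgroup.card_map_of_injective he])
      ⟨a, by rw [show K.map e.toMonoidHom = K.map (e : B →* A) from rfl,
        Subgroup.index_map_equiv, ha]⟩
    exact IsIrrCharacter.comp_equiv h1 (K.equivMapOfInjective _ he)
  · rw [show η ∘ e = η ∘ e.toMonoidHom from rfl, detChar_comp e.toMonoidHom hη]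
    exact h.2 (e v) ⟨a, by rw [← map_pow, ha, map_one]⟩

theorem exists_detChar_hom {χ : A → ℂ} (hχ : IsCharacter A χ) :
    ∃ φ : A →* ℂˣ, ∀ a, detChar χ a = (φ a : ℂ) := by
  obtain ⟨n, ρ, rfl⟩ := hχ
  exact ⟨detHom ρ, fun a => by rw [detChar_eq ρ, detHom_coe]⟩

theorem GoodChar.detOrder_not_dvd [hp : Fact p.Prime] {η : A → ℂ} (hη : IsCharacter A η)
    (h : GoodChar p η) : ¬ p ∣ detOrder η := by
  obtain ⟨φ, hφ⟩ := exists_detChar_hom hη
  set m := Nat.card A / p ^ (Nat.card A).factorization p with hm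
  have hmp : ¬ p ∣ m := Nat.not_dvd_ordCompl hp.out Nat.card_pos.ne'
  refine fun hd => hmp (hd.trans (orderOf_dvd_of_pow_eq_one ?_))
  funext v
  rw [Pi.pow_apply, Pi.one_apply, hφ, ← Units.val_pow_eq_pow_val, ← map_pow, ← hφ]
  refine h.2 _ ⟨(Nat.card A).factorization p, ?_⟩
  rw [← pow_mul, mul_comm, hm, Nat.ordProj_mul_ordCompl_eq_self, pow_card_eq_one']

theorem GoodChar.degree_not_dvd [hp : Fact p.Prime] {η : A → ℂ}
    (h : GoodChar p η) {K : Subgroup A} (hK : ¬ p ∣ Nat.card K) {a : ℕ} (ha : K.index = p ^ a)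
    {d : ℕ} (hd : η 1 = d) : ¬ p ∣ d := by
  obtain ⟨n, -, hn, hdvd⟩ := IsIrrCharacter.exists_degree_dvd (h.1 K hK ⟨a, ha⟩)
  have : d = n := by
    have h1 : (d : ℂ) = n := hd.symm.trans hn
    exact_mod_cast h1
  subst this
  exact fun hp' => hK (hp'.trans hdvd)

theorem detChar_add {χ ψ : A → ℂ} (hχ : IsCharacter A χ) (hψ : IsCharacter A ψ) (a : A) :
    detChar (χ + ψ) a = detChar χ a * detChar ψ a := by
  obtain ⟨n, ρ, rfl⟩ := hχ
  obtain ⟨m, σ, rfl⟩ := hψ
  rw [← char_prod_eq_add, detChar_eq, detChar_eq, detChar_eq]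
  exact LinearMap.det_prodMap (ρ a) (σ a)

theorem detChar_natCast_smul {χ : A → ℂ} (hχ : IsCharacter A χ) (a : A) :
    ∀ k : ℕ, detChar ((k : ℂ) • χ) a = detChar χ a ^ k
  | 0 => by
    have h0 : IsCharacter A ((0 : ℕ) • χ) := IsCharacter.nsmul hχ 0
    have h := detChar_add h0 hχ a
    rw [zero_smul, zero_add] at h
    obtain ⟨φ, hφ⟩ := exists_detChar_hom hχ
    have hne : detChar χ a ≠ 0 := by rw [hφ]; exact Units.ne_zero _
    rw [Nat.cast_zero, zero_smul, pow_zero]
    exact mul_right_cancel₀ hne (h.symm.trans (one_mul _).symm)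
  | k + 1 => by
    rw [Nat.cast_succ, add_smul, one_smul, pow_succ,
      detChar_add (IsCharacter.natCast_smul hχ k) hχ, detChar_natCast_smul hχ a k]

theorem eq_one_of_pow_eq_one {M : Type*} [Monoid M] {x : M} {a b : ℕ} (hab : Nat.Coprime a b)
    (ha : x ^ a = 1) (hb : x ^ b = 1) : x = 1 :=
  orderOf_eq_one_iff.1 (Nat.eq_one_of_dvd_coprimes hab (orderOf_dvd_of_pow_eq_one ha)
    (orderOf_dvd_of_pow_eq_one hb))

/-- Being good passes to an extension over a normal `p`-section. -/
theorem GoodChar.of_extension [hp : Fact p.Prime] (N : Subgroup A) [N.Normal] {η : N → ℂ}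
    (h : GoodChar p η) {a : ℕ} (hidx : N.index = p ^ a) {θ : A → ℂ} (hθ : IsCharacter A θ)
    (hres : ∀ n : N, θ n = η n) (hdet : ¬ p ∣ detOrder θ) : GoodChar p θ := by
  refine ⟨fun K hK ⟨b, hb⟩ => ?_, fun v ⟨b, hb⟩ => ?_⟩
  · have hKN : K ≤ N := fun k hk => by
      rw [← QuotientGroup.eq_one_iff]
      refine eq_one_of_pow_eq_one (Nat.Coprime.pow_left a (hp.out.coprime_iff_not_dvd.2 hK)) ?_ ?_
      · rw [← hidx, Subgroup.index_eq_card, pow_card_eq_one']
      · rw [← QuotientGroup.mk_pow,
          show k ^ Nat.card K = ((⟨k, hk⟩ : K) ^ Nat.card K : K) from rfl, pow_card_eq_one']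
        rfl
    have hdvd : (K.subgroupOf N).index ∣ K.index := Subgroup.relIndex_dvd_index_of_le hKN
    rw [hb] at hdvd
    obtain ⟨c, -, hc⟩ := (Nat.dvd_prime_pow hp.out).1 hdvd
    have h1 := IsIrrCharacter.comp_equiv
      (h.1 (K.subgroupOf N)
        (by rwa [Nat.card_congr (Subgroup.subgroupOfEquivOfLe hKN).toEquiv]) ⟨c, hc⟩)
      (Subgroup.subgroupOfEquivOfLe hKN).symm
    convert h1 using 1
    funext k
    exact hres ⟨k, hKN k.2⟩
  · obtain ⟨φ, hφ⟩ := exists_detChar_hom hθ
    rw [hφ, Units.val_eq_one]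
    refine eq_one_of_pow_eq_one
      (Nat.Coprime.pow_left b (hp.out.coprime_iff_not_dvd.2 hdet)) ?_ ?_
    · rw [← map_pow, hb, map_one]
    · refine Units.ext ?_
      rw [Units.val_pow_eq_pow_val, ← hφ, Units.val_one]
      exact congrFun (pow_orderOf_eq_one (detChar θ)) v

variable [Fintype A]

/-- A character with no trivial constituent on a subgroup has none on the group. -/
theorem classInner_one_eq_zero_of_restrict {D : A → ℂ} (hD : IsCharacter A D) (K : Subgroup A)
    [Fintype K] (h : classInner (fun k : K => D k) (fun _ => 1) = 0) :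
    classInner D (fun _ => 1) = 0 := by
  haveI := Fintype.ofFinite (IrrCharacter A)
  obtain ⟨m, hm, hm'⟩ := IsCharacter.exists_nat_decomp hD
  have hr : (fun k : K => D k) = ∑ φ, (m φ : ℂ) • fun k : K => (φ : A → ℂ) k := by
    funext k
    simpa using congrFun hm (k : A)
  choose f hf using fun φ : IrrCharacter A =>
    IsCharacter.exists_classInner_nat (IsCharacter.restrict (irr_isCharacter φ) K) isCharacter_one
  rw [hr, classInner_sum_left] at h
  simp only [classInner_smul_left, hf] at h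
  have h' : (∑ φ, m φ * f φ : ℕ) = 0 := by exact_mod_cast h
  have h1 := Finset.sum_eq_zero_iff.1 h' (trivIrr A) (Finset.mem_univ _)
  have hf1 : f (trivIrr A) = 1 := by
    have h2 := hf (trivIrr A)
    rw [show (fun k : K => (trivIrr A : A → ℂ) k) = fun _ => 1 from rfl,
      IsIrrCharacter.classInner_self isIrrCharacter_one] at h2
    exact_mod_cast h2.symm
  rw [hf1, mul_one] at h1
  rw [show (fun _ : A => (1 : ℂ)) = (trivIrr A : A → ℂ) from rfl, hm', h1, Nat.cast_zero]

/-- Sum of a function constant on the cosets of `N` over a supplement. -/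
theorem classInner_restrict_of_const (N K : Subgroup A) [N.Normal] [Fintype K]
    (hNK : N ⊔ K = ⊤) {α : A → ℂ} (hα : ∀ (n : N) (g : A), α ((n : A) * g) = α g) :
    classInner (fun k : K => α k) (fun _ => 1) = classInner α (fun _ => 1) := by
  let β : A ⧸ N → ℂ := fun x => Quotient.liftOn' x α fun a b hab => by
    rw [QuotientGroup.leftRel_apply] at hab
    have hn : b * a⁻¹ ∈ N := Subgroup.Normal.mem_comm inferInstance hab
    have := hα ⟨b * a⁻¹, hn⟩ a
    simpa using this.symm
  let ψ : K →* A ⧸ N := (QuotientGroup.mk' N).comp K.subtype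
  have hψ : Function.Surjective ψ := by
    intro x
    obtain ⟨a, rfl⟩ := QuotientGroup.mk_surjective x
    have ha : a ∈ ((N : Set A) * (K : Set A)) := by
      rw [← Subgroup.normal_mul, hNK]; trivial
    obtain ⟨n, hn, k, hk, rfl⟩ := Set.mem_mul.1 ha
    refine ⟨⟨k, hk⟩, ?_⟩
    show ((k : A) : A ⧸ N) = _
    rw [QuotientGroup.mk_mul, (QuotientGroup.eq_one_iff n).2 hn, one_mul]
  haveI := Fintype.ofFinite (A ⧸ N)
  have hsum : ∀ {B : Type u} [Group B] [Fintype B] (f : B →* A ⧸ N), Function.Surjective f →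
      (Nat.card B : ℂ)⁻¹ * ∑ b, β (f b) = (Nat.card (A ⧸ N) : ℂ)⁻¹ * ∑ x, β x := by
    intro B _ _ f hf
    classical
    have hfib : ∀ x, (Finset.univ.filter fun b => f b = x).card = Nat.card f.ker := by
      intro x
      obtain ⟨b₀, rfl⟩ := hf x
      rw [← Nat.card_eq_finsetCard]
      refine Nat.card_congr ((Equiv.mulLeft b₀⁻¹).subtypeEquiv fun b => ?_)
      simp [MonoidHom.mem_ker, inv_mul_eq_one, eq_inv_mul_iff_mul_eq, eq_comm]
    have hcard : Nat.card B = Nat.card (A ⧸ N) * Nat.card f.ker := by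
      rw [← Nat.card_congr (QuotientGroup.quotientKerEquivOfSurjective f hf).toEquiv,
        ← Subgroup.card_eq_card_quotient_mul_card_subgroup]
    have hk0 : (Nat.card f.ker : ℂ) ≠ 0 := Nat.cast_ne_zero.2 Nat.card_pos.ne'
    rw [← Finset.sum_fiberwise Finset.univ f, Finset.mul_sum, Finset.mul_sum]
    refine Finset.sum_congr rfl fun x _ => ?_
    rw [Finset.sum_congr rfl (g := fun _ => β x) fun b hb => by rw [(Finset.mem_filter.1 hb).2],
      Finset.sum_const, hfib, nsmul_eq_mul, hcard, Nat.cast_mul]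
    field_simp
  simp only [classInner, map_one, mul_one]
  exact (hsum ψ hψ).trans (hsum _ (QuotientGroup.mk'_surjective N)).symm

/-- **The isometry of restriction to a supplement.** -/
theorem classInner_restrict_eq (N K : Subgroup A) [N.Normal] [Fintype N] [Fintype K]
    [Fintype (N ⊓ K : Subgroup A)] (hNK : N ⊔ K = ⊤) {ζ ζ' : A → ℂ} (hζ : IsCharacter A ζ)
    (hζ' : IsCharacter A ζ')
    (h : classInner (fun x : (N ⊓ K : Subgroup A) => ζ x) (fun x => ζ' x) =
      classInner (fun x : N => ζ x) (fun x => ζ' x)) :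
    classInner (fun k : K => ζ k) (fun k => ζ' k) = classInner ζ ζ' := by
  haveI := Fintype.ofFinite (IrrCharacter A)
  set F : A → ℂ := ζ * fun g => conj (ζ' g) with hF
  have hFc : IsCharacter A F := IsCharacter.mul hζ (IsCharacter.conjugate hζ')
  set α := Characters.avgN N F with hα
  obtain ⟨m, hm, -⟩ := IsCharacter.exists_nat_decomp hFc
  set D : A → ℂ := F - α with hDdef
  have hD : IsCharacter A D := by
    have hD' : D = ∑ β : IrrCharacter A,
        (m β : ℂ) • ((β : A → ℂ) - Characters.avgN N (β : A → ℂ)) := by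
      rw [hDdef, hα, hm, avgN_smul_sum, ← Finset.sum_sub_distrib]
      simp only [smul_sub]
    rw [hD']
    refine IsCharacter.sum _ fun β _ => IsCharacter.natCast_smul ?_ _
    rcases IsIrrCharacter.avgN_eq N β.2 with h0 | h0 <;> rw [h0]
    · rw [sub_zero]; exact irr_isCharacter β
    · rw [sub_self]; exact isCharacter_zero
  have hF1 : α 1 = classInner (fun x : N => ζ x) (fun x => ζ' x) := by
    rw [hα, avgN_one]
    simp [classInner, hF]
  have hD0 : classInner (fun x : (N ⊓ K : Subgroup A) => D x) (fun _ => 1) = 0 := by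
    have h2 : ∀ x : (N ⊓ K : Subgroup A), α x = α 1 := fun x =>
      avgN_apply_coe N F ⟨x, x.2.1⟩
    simp only [classInner, hDdef, Pi.sub_apply, map_one, mul_one, h2, Finset.sum_sub_distrib,
      mul_sub, Finset.sum_const, Finset.card_univ, nsmul_eq_mul, ← Nat.card_eq_fintype_card]
    rw [inv_mul_cancel_left₀ natCard_ne_zero_complex, hF1, ← h, sub_eq_zero]
    simp [classInner, hF]
  have hDK : classInner (fun k : K => D k) (fun _ => 1) = 0 := by
    haveI : Fintype ((N ⊓ K).subgroupOf K) := Fintype.ofFinite _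
    refine classInner_one_eq_zero_of_restrict (IsCharacter.restrict hD K)
      ((N ⊓ K).subgroupOf K) ?_
    rw [← hD0, ← classInner_comp_equiv (Subgroup.subgroupOfEquivOfLe (inf_le_right : N ⊓ K ≤ K))
      (fun x : (N ⊓ K : Subgroup A) => D x) fun _ => 1]
    rfl
  have h3 := classInner_restrict_of_const N K hNK (α := α) (avgN_apply_mul N F)
  have h4 : classInner α (fun _ => 1) = classInner F (fun _ => 1) :=
    classInner_avgN_of_const N F fun _ _ => rfl
  calc classInner (fun k : K => ζ k) (fun k => ζ' k)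
      = classInner (fun k : K => F k) (fun _ => 1) := by simp [classInner, hF]
    _ = classInner (fun k : K => D k) (fun _ => 1) + classInner (fun k : K => α k) (fun _ => 1) := by
        rw [← classInner_add_left]
        congr 1
        funext k
        simp [hDdef]
    _ = classInner F (fun _ => 1) := by rw [hDK, zero_add, h3, h4]
    _ = classInner ζ ζ' := by simp [classInner, hF]

omit [Fintype A]

/-- Restriction to a `p'`-Hall subgroup is an isometry over a good character. -/
theorem GoodChar.classInner_restrict [hp : Fact p.Prime] [Fintype A] (N : Subgroup A) [N.Normal]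
    [Fintype N] {η : N → ℂ} (hη : IsIrrCharacter N η) (h : GoodChar p η)
    (hidx : N.index.Coprime p) {K : Subgroup A} [Fintype K] (hK : ¬ p ∣ Nat.card K) {a : ℕ}
    (ha : K.index = p ^ a) {ζ ζ' : A → ℂ} (hζ : IsCharacter A ζ) (hζ' : IsCharacter A ζ')
    {e e' : ℂ} (he : ∀ n : N, ζ n = e * η n) (he' : ∀ n : N, ζ' n = e' * η n) :
    classInner (fun k : K => ζ k) (fun k => ζ' k) = classInner ζ ζ' := by
  haveI : Fintype (N ⊓ K : Subgroup A) := Fintype.ofFinite _
  have hNK : N ⊔ K = ⊤ := by
    rw [← Subgroup.index_eq_one]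
    have h1 : (N ⊔ K).index ∣ N.index := Subgroup.index_dvd_of_le le_sup_left
    have h2 : (N ⊔ K).index ∣ p ^ a := ha ▸ Subgroup.index_dvd_of_le le_sup_right
    exact Nat.eq_one_of_dvd_coprimes (Nat.Coprime.pow_right a hidx) h1 h2
  refine classInner_restrict_eq N K hNK hζ hζ' ?_
  let e₀ := Subgroup.subgroupOfEquivOfLe (inf_le_left : N ⊓ K ≤ N)
  have hirr : IsIrrCharacter (N ⊓ K : Subgroup A)
      (fun x : (N ⊓ K : Subgroup A) => η ⟨x, x.2.1⟩) := by
    have hd : ((N ⊓ K).subgroupOf N).index ∣ p ^ a := by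
      rw [Subgroup.inf_subgroupOf_left, ← ha]
      have hsup : N.index = N.relIndex K := by
        rw [← Subgroup.relIndex_sup_right K N, sup_comm, hNK, Subgroup.relIndex_top_right]
      have h1 := Subgroup.relIndex_mul_index (inf_le_left : N ⊓ K ≤ N)
      rw [← Subgroup.relIndex_mul_index (inf_le_right : N ⊓ K ≤ K), Subgroup.inf_relIndex_right,
        Subgroup.inf_relIndex_left, ← hsup, mul_comm N.index] at h1
      exact dvd_of_eq (Nat.eq_of_mul_eq_mul_right
        (Nat.pos_of_ne_zero Subgroup.index_ne_zero_of_finite) h1)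
    obtain ⟨b, -, hb⟩ := (Nat.dvd_prime_pow hp.out).1 hd
    have h1 := IsIrrCharacter.comp_equiv (h.1 ((N ⊓ K).subgroupOf N) (by
      rw [Nat.card_congr e₀.toEquiv]
      exact fun hd' => hK (hd'.trans (Subgroup.card_dvd_of_le inf_le_right))) ⟨b, hb⟩) e₀.symm
    exact h1
  rw [show (fun x : (N ⊓ K : Subgroup A) => ζ x) =
      e • fun x : (N ⊓ K : Subgroup A) => η ⟨x, x.2.1⟩ from funext fun x => he ⟨x, x.2.1⟩,
    show (fun x : (N ⊓ K : Subgroup A) => ζ' x) =
      e' • fun x : (N ⊓ K : Subgroup A) => η ⟨x, x.2.1⟩ from funext fun x => he' ⟨x, x.2.1⟩,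
    show (fun x : N => ζ x) = e • η from funext he, show (fun x : N => ζ' x) = e' • η from funext he']
  simp only [classInner_smul_left, classInner_smul_right, IsIrrCharacter.classInner_self hη,
    IsIrrCharacter.classInner_self hirr]

/-- Being good passes to the constituents over a normal `p'`-section. -/
theorem GoodChar.of_over [hp : Fact p.Prime] [Fintype A] (N : Subgroup A) [N.Normal] [Fintype N]
    {η : N → ℂ} (hη : IsIrrCharacter N η) (h : GoodChar p η) (hidx : N.index.Coprime p)
    {ζ : A → ℂ} (hζ : IsIrrCharacter A ζ) {e : ℕ} (he : ∀ n : N, ζ n = e * η n) :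
    GoodChar p ζ := by
  refine ⟨fun K hK ⟨b, hb⟩ => ?_, fun v ⟨b, hb⟩ => ?_⟩
  · haveI : Fintype K := Fintype.ofFinite _
    rw [IsCharacter.isIrr_iff (IsCharacter.restrict (IsIrrCharacter.isCharacter hζ) K),
      h.classInner_restrict N hη hidx hK hb (IsIrrCharacter.isCharacter hζ)
        (IsIrrCharacter.isCharacter hζ) he he, IsIrrCharacter.classInner_self hζ]
  · have hvN : v ∈ N := by
      rw [← QuotientGroup.eq_one_iff]
      refine eq_one_of_pow_eq_one (Nat.Coprime.pow_left b hidx.symm) ?_ ?_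
      · rw [← QuotientGroup.mk_pow, hb, QuotientGroup.mk_one]
      · rw [Subgroup.index_eq_card, pow_card_eq_one']
    have h1 := congrFun (detChar_comp N.subtype (IsIrrCharacter.isCharacter hζ)) ⟨v, hvN⟩
    rw [show detChar ζ v = (detChar ζ ∘ N.subtype) ⟨v, hvN⟩ from rfl, ← h1,
      show ζ ∘ N.subtype = (e : ℂ) • η from funext he,
      detChar_natCast_smul (IsIrrCharacter.isCharacter hη),
      h.2 ⟨v, hvN⟩ ⟨b, Subtype.ext (by simpa using hb)⟩, one_pow]

end Cfsg.Agent.Lib.Harada
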