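import Cfsg.Agent.Lib.Harada.Component

/-!
# Central idempotents in the group algebra and the inclusion of a subgroup
-/

set_option autoImplicit false
set_option linter.unusedSectionVars false
set_option linter.style.haveILetI false

namespace Cfsg.Agent.Lib.Harada

open Cfsg Cfsg.Agent.Lib.Characters Cfsg.Agent.Lib.Blocks MonoidAlgebra
open scoped ComplexConjugate

universe u

variable {G : Type u} [Group G] [Fintype G]

/-- The group algebra of a subgroup inside that of the group. -/
noncomputable def incl (H : Subgroup G) : MonoidAlgebra ℂ H →ₐ[ℂ] MonoidAlgebra ℂ G :=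
  MonoidAlgebra.lift ℂ (MonoidAlgebra ℂ G) H ((MonoidAlgebra.of ℂ G).comp H.subtype)

theorem incl_single (H : Subgroup G) (h : H) (a : ℂ) :
    incl H (single h a) = single (h : G) a := by
  rw [incl, lift_single]
  simp [MonoidAlgebra.of_apply, smul_single']

variable (H : Subgroup G) [Fintype H]

theorem incl_sum_single (F : H → ℂ) : incl H (∑ h, single h (F h)) = el H F := by
  simp only [map_sum, incl_single, el]

theorem incl_eq_el (w : MonoidAlgebra ℂ H) : incl H w = el H fun h => w.coeff h := by
  conv_lhs => rw [← sum_single_coeff w]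
  exact incl_sum_single H _

theorem grpTr_incl (χ : G → ℂ) (w : MonoidAlgebra ℂ H) :
    grpTr χ (incl H w) = grpTr (fun h : H => χ h) w := by
  rw [incl_eq_el, grpTr_el]
  rfl

theorem intCoef_incl {M : Ideal AlgInt} [M.IsPrime] {w : MonoidAlgebra ℂ H} (hw : IntCoef M w) :
    IntCoef M (incl H w) := by
  rw [incl_eq_el]
  exact intCoef_el H hw

/-- Elements commuting with every translate by `H` commute with its group algebra. -/
theorem commute_incl {z : MonoidAlgebra ℂ G}
    (h : ∀ (t : H) (a : ℂ), z * single (t : G) a = single (t : G) a * z) (w : MonoidAlgebra ℂ H) :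
    Commute z (incl H w) := by
  rw [incl_eq_el, el]
  exact Commute.sum_right _ _ _ fun t _ => h t _

/-- The central idempotent of a character. -/
noncomputable def idem (θ : G → ℂ) : MonoidAlgebra ℂ G :=
  ∑ a, single a ((Nat.card G : ℂ)⁻¹ * (θ 1 * conj (θ a)))

theorem grpTr_idem (χ θ : G → ℂ) : grpTr χ (idem θ) = θ 1 * classInner χ θ := by
  simp only [idem, grpTr_sum, grpTr_single, classInner, Finset.mul_sum]
  exact Finset.sum_congr rfl fun a _ => by ring

theorem incl_idem (θ : IrrCharacter H) : incl H (idem (θ : H → ℂ)) = el H (coef H θ) := by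
  rw [idem, incl_sum_single]
  rfl

open Classical in
theorem grpTr_idem_mul_irr (φ θ : IrrCharacter G) (y : MonoidAlgebra ℂ G) :
    grpTr (φ : G → ℂ) (idem (θ : G → ℂ) * y) = if φ = θ then grpTr (φ : G → ℂ) y else 0 := by
  set f : G → ℂ := fun a => (Nat.card G : ℂ)⁻¹ * ((θ : G → ℂ) 1 * conj ((θ : G → ℂ) a)) with hf
  have hfc : IsClassFunction G f := fun g h => by simp only [hf, irr_isClassFunction θ g h]
  have hom : omega (φ : G → ℂ) f = if φ = θ then 1 else 0 := by
    have h1 : ∑ x, f x * (φ : G → ℂ) x = (θ : G → ℂ) 1 * classInner (φ : G → ℂ) (θ : G → ℂ) := by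
      simp only [hf, classInner, Finset.mul_sum]
      exact Finset.sum_congr rfl fun a _ => by ring
    rw [omega, h1, classInner_irr]
    split_ifs with he
    · subst he; rw [mul_one, div_self (IsIrrCharacter.apply_one_ne_zero φ.2)]
    · rw [mul_zero, zero_div]
  calc grpTr (φ : G → ℂ) (idem (θ : G → ℂ) * y)
      = ∑ b, y.coeff b * ∑ a, f a * (φ : G → ℂ) (a * b) := by
        conv_lhs => rw [← sum_single_coeff y]
        simp only [idem, hf, Finset.sum_mul, Finset.mul_sum, grpTr_sum, single_mul_single,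
          grpTr_single]
        exact Finset.sum_congr rfl fun b _ => Finset.sum_congr rfl fun a _ => by ring
    _ = _ := by
        simp only [sum_mul_char_mul φ.2 hfc, hom]
        split_ifs
        · simp [grpTr]
        · simp

theorem grpTr_idem_mul {χ : G → ℂ} (hχ : IsCharacter G χ) (θ : IrrCharacter G)
    (y : MonoidAlgebra ℂ G) :
    grpTr χ (idem (θ : G → ℂ) * y) = classInner χ (θ : G → ℂ) * grpTr (θ : G → ℂ) y := by
  classical
  haveI := Fintype.ofFinite (IrrCharacter G)
  obtain ⟨m, hm, hm'⟩ := IsCharacter.exists_nat_decomp hχ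
  have hlin : ∀ z, grpTr χ z = ∑ φ : IrrCharacter G, (m φ : ℂ) * grpTr (φ : G → ℂ) z := by
    intro z
    simp only [grpTr, hm, Finset.sum_apply, Pi.smul_apply, smul_eq_mul, Finset.mul_sum]
    rw [Finset.sum_comm]
    exact Finset.sum_congr rfl fun φ _ => Finset.sum_congr rfl fun g _ => by ring
  simp only [hlin, grpTr_idem_mul_irr, mul_ite, mul_zero, Finset.sum_ite_eq', Finset.mem_univ,
    if_true, hm' θ]

/-- Elements of the group algebra are determined by the irreducible characters. -/
theorem ext_grpTr {x x' : MonoidAlgebra ℂ G}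
    (h : ∀ (φ : IrrCharacter G) y, grpTr (φ : G → ℂ) (x * y) = grpTr (φ : G → ℂ) (x' * y)) :
    x = x' := by
  haveI := Fintype.ofFinite (IrrCharacter G)
  apply coeff_injective
  ext g
  simp only [coeff_eq_sum_grpTr, h]

open Classical in
theorem idem_mul_idem (θ θ' : IrrCharacter G) :
    idem (θ : G → ℂ) * idem (θ' : G → ℂ) = if θ = θ' then idem (θ : G → ℂ) else 0 := by
  refine ext_grpTr fun φ y => ?_
  rw [mul_assoc, grpTr_idem_mul_irr, grpTr_idem_mul_irr]
  by_cases h : θ = θ'
  · subst h
    rw [if_pos rfl, grpTr_idem_mul_irr]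
    split_ifs <;> rfl
  · rw [if_neg h, zero_mul, grpTr_zero]
    split_ifs with h1 h2
    · exact absurd (h1.symm.trans h2) h
    all_goals rfl

theorem idem_commute (θ : IrrCharacter G) (z : MonoidAlgebra ℂ G) :
    Commute (idem (θ : G → ℂ)) z := by
  classical
  refine ext_grpTr fun φ y => ?_
  rw [mul_assoc, mul_assoc z, grpTr_mul_comm (irr_isClassFunction φ) z (idem _ * y), mul_assoc,
    grpTr_idem_mul_irr, grpTr_idem_mul_irr, grpTr_mul_comm (irr_isClassFunction φ) y z]

/-- Powers of a combination of orthogonal idempotents. -/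
theorem sum_idem_mul_pow {R : Type*} [Ring R] {ι : Type*} (s : Finset ι) (e z : ι → R)
    (he : ∀ i ∈ s, e i * e i = e i) (ho : ∀ i ∈ s, ∀ j ∈ s, i ≠ j → e i * e j = 0)
    (hc : ∀ i ∈ s, Commute (e i) (z i)) (n : ℕ) :
    (∑ i ∈ s, e i * z i) ^ (n + 1) = ∑ i ∈ s, e i * z i ^ (n + 1) := by
  classical
  induction n with
  | zero => simp
  | succ n ih =>
    rw [pow_succ, ih, Finset.sum_mul]
    refine Finset.sum_congr rfl fun i hi => ?_
    rw [Finset.mul_sum, Finset.sum_eq_single i (fun j hj hji => ?_) (fun h => absurd hi h)]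
    · rw [mul_assoc, ← mul_assoc (z i ^ (n + 1)), ← ((hc i hi).pow_right (n + 1)).eq,
        ← mul_assoc, ← mul_assoc, he i hi, mul_assoc, ← pow_succ]
    · rw [((hc i hi).pow_right (n + 1)).eq, mul_assoc, ← mul_assoc (e i),
        ho i hi j hj (Ne.symm hji), zero_mul, mul_zero]

end Cfsg.Agent.Lib.Harada
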