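import Cfsg.Agent.Lib.Harada.Words
import Cfsg.Agent.Lib.Blocks.LocalModel
import Mathlib.LinearAlgebra.Eigenspace.Triangularizable
import Mathlib.LinearAlgebra.Eigenspace.Zero
import Mathlib.LinearAlgebra.Eigenspace.Charpoly
import Mathlib.Algebra.DirectSum.LinearMap
import Mathlib.NumberTheory.Basic
import Mathlib.RingTheory.Nilpotent.Lemmas

/-!
# Congruences of high `p`-powers

A trace criterion for topological nilpotence modulo `M` and the integrality of an idempotent
separated by an integral element of the group algebra.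
-/

set_option autoImplicit false
set_option linter.unusedSectionVars false
set_option linter.style.haveILetI false

namespace Cfsg.Agent.Lib.Harada

open Cfsg Cfsg.Agent.Lib.Characters Cfsg.Agent.Lib.Blocks MonoidAlgebra

universe u

variable {p : ℕ} {M : Ideal AlgInt} [M.IsPrime]

/-- `s` tends to `v` for the `p`-adic congruences of the local ring. -/
def PTends (p : ℕ) (M : Ideal AlgInt) (s : ℕ → ℂ) (v : ℂ) : Prop :=
  ∀ t : ℕ, ∃ K, ∀ k, K ≤ k → MemLocalRing M ((s k - v) / (p : ℂ) ^ t)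

theorem PTends.const (v : ℂ) : PTends p M (fun _ => v) v := fun t =>
  ⟨0, fun k _ => by rw [sub_self, zero_div]; exact memLocalRing_zero⟩

theorem PTends.add {s s' : ℕ → ℂ} {v v' : ℂ} (h : PTends p M s v) (h' : PTends p M s' v') :
    PTends p M (fun k => s k + s' k) (v + v') := fun t => by
  obtain ⟨K, hK⟩ := h t
  obtain ⟨K', hK'⟩ := h' t
  refine ⟨max K K', fun k hk => ?_⟩
  rw [show s k + s' k - (v + v') = (s k - v) + (s' k - v') by ring, add_div]
  exact memLocalRing_add (hK k (le_of_max_le_left hk)) (hK' k (le_of_max_le_right hk))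

theorem PTends.sum {ι : Type*} (S : Finset ι) {s : ι → ℕ → ℂ} {v : ι → ℂ}
    (h : ∀ i ∈ S, PTends p M (s i) (v i)) :
    PTends p M (fun k => ∑ i ∈ S, s i k) (∑ i ∈ S, v i) := by
  classical
  induction S using Finset.induction with
  | empty => simpa using PTends.const (p := p) (M := M) (0 : ℂ)
  | insert i S hi ih =>
    simp only [Finset.sum_insert hi]
    exact (h i (Finset.mem_insert_self _ _)).add (ih fun j hj => h j (Finset.mem_insert_of_mem hj))

theorem PTends.congr {s s' : ℕ → ℂ} {v : ℂ} {K₀ : ℕ} (h : PTends p M s v)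
    (he : ∀ k, K₀ ≤ k → s k = s' k) : PTends p M s' v := fun t => by
  obtain ⟨K, hK⟩ := h t
  exact ⟨max K K₀, fun k hk => he k (le_of_max_le_right hk) ▸ hK k (le_of_max_le_left hk)⟩

/-- Multiplying by a number with bounded denominator. -/
theorem PTends.const_mul (hM : IsPModular p M) {s : ℕ → ℂ} {v c : ℂ} {D : ℕ} (hD : D ≠ 0)
    (hc : MemLocalRing M ((D : ℂ) * c)) (h : PTends p M s v) :
    PTends p M (fun k => c * s k) (c * v) := fun t => by
  obtain ⟨e, m, hm, rfl⟩ := Nat.exists_eq_pow_mul_and_not_dvd hD p hM.1.ne_one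
  obtain ⟨K, hK⟩ := h (t + e)
  refine ⟨K, fun k hk => ?_⟩
  have hp0 : (p : ℂ) ≠ 0 := Nat.cast_ne_zero.2 hM.1.ne_zero
  have hm0 : (m : ℂ) ≠ 0 := Nat.cast_ne_zero.2 fun h0 => hm (h0 ▸ dvd_zero p)
  have h1 : (c * s k - c * v) / (p : ℂ) ^ t =
      (((p ^ e * m : ℕ) : ℂ) * c) * (m : ℂ)⁻¹ * ((s k - v) / (p : ℂ) ^ (t + e)) := by
    push_cast
    rw [pow_add]
    field_simp
  rw [h1]
  exact memLocalRing_mul (memLocalRing_mul hc (memLocalRing_inv_natCast hM hm)) (hK k hk)

theorem PTends.const_mul' (hM : IsPModular p M) {s : ℕ → ℂ} {v c : ℂ}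
    (hc : MemLocalRing M c) (h : PTends p M s v) : PTends p M (fun k => c * s k) (c * v) :=
  h.const_mul hM one_ne_zero (by rwa [Nat.cast_one, one_mul])

theorem PTends.sub (hM : IsPModular p M) {s s' : ℕ → ℂ} {v v' : ℂ} (h : PTends p M s v)
    (h' : PTends p M s' v') : PTends p M (fun k => s k - s' k) (v - v') := by
  have := h.add (h'.const_mul' hM (c := -1) (memLocalRing_neg memLocalRing_one))
  simpa [sub_eq_add_neg] using this

theorem ptends_pow_of_mem (hM : IsPModular p M) {z : ℂ} (hz : MemLocalIdeal M z) {j : ℕ}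
    (hj : 0 < j) : PTends p M (fun k => z ^ (j * p ^ k)) 0 := fun t => by
  obtain ⟨N, hN⟩ := exists_pow_div_p_pow hM hz t
  refine ⟨N, fun k hk => ?_⟩
  rw [sub_zero]
  refine hN _ (le_trans hk (le_trans ?_ (Nat.le_mul_of_pos_left _ hj)))
  exact (Nat.lt_pow_self hM.1.one_lt).le

theorem ptends_pow_of_congr_one (hM : IsPModular p M) {z : ℂ} (hz : MemLocalRing M z)
    (hz1 : MemLocalIdeal M (z - 1)) : PTends p M (fun k => z ^ p ^ k) 1 := fun t => by
  have hp0 : (p : ℂ) ≠ 0 := Nat.cast_ne_zero.2 hM.1.ne_zero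
  obtain ⟨N, hN⟩ := exists_pow_div_p_pow hM hz1 1
  let R := locSubring M
  let zz : R := ⟨z, hz⟩
  let y : R := zz - 1
  obtain ⟨w, hw⟩ : ∃ w : R, zz ^ p ^ N = 1 + (p : R) * w := by
    obtain ⟨r, hr⟩ := exists_add_pow_prime_pow_eq hM.1 (1 : R) y N
    have hy : MemLocalRing M ((z - 1) ^ p ^ N / (p : ℂ) ^ 1) :=
      hN _ (Nat.lt_pow_self hM.1.one_lt).le
    rw [pow_one] at hy
    refine ⟨⟨_, hy⟩ + y * r, ?_⟩
    have he : zz = 1 + y := (add_sub_cancel 1 zz).symm
    rw [he, hr, one_pow, mul_add, add_assoc]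
    congr 2
    · apply Subtype.ext
      show (z - 1) ^ p ^ N = (p : ℂ) * ((z - 1) ^ p ^ N / (p : ℂ))
      field_simp
    · ring
  refine ⟨N + t, fun k hk => ?_⟩
  obtain ⟨s, rfl⟩ : ∃ s, k = N + (t + s) := ⟨k - N - t, by omega⟩
  have hdvd : (p : R) ∣ zz ^ p ^ N - 1 := ⟨w, by rw [hw]; ring⟩
  have h2 := dvd_sub_pow_of_dvd_sub hdvd (t + s)
  rw [one_pow, ← pow_mul, ← pow_add] at h2
  obtain ⟨r, hr⟩ := h2
  have h3 : z ^ p ^ (N + (t + s)) - 1 = (p : ℂ) ^ (t + s + 1) * (r : ℂ) := by
    have := congrArg Subtype.val hr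
    simpa [zz] using this
  rw [h3, show t + s + 1 = t + (s + 1) by ring, pow_add, mul_assoc,
    mul_div_cancel_left₀ _ (pow_ne_zero t hp0)]
  exact memLocalRing_mul (memLocalRing_pow (memLocalRing_natCast p) _) r.2

/-- Nonzero residues have finite multiplicative order. -/
theorem exists_red_pow_eq_one (hM : IsPModular p M) (z : locSubring M)
    (hz : red M z ≠ 0) : ∃ J, 0 < J ∧ red M z ^ J = 1 := by
  haveI := Fact.mk hM.1
  haveI := resField_charP (M := M) hM
  letI := ZMod.algebra (ResField M) p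
  have key : ∀ a : AlgInt, IsIntegral (ZMod p) (red M ⟨(a : ℂ), memLocalRing_coe a⟩) := by
    intro a
    let f : AlgInt →+* ResField M := (red M).comp
      { toFun := fun a => (⟨(a : ℂ), memLocalRing_coe a⟩ : locSubring M)
        map_one' := rfl
        map_mul' := fun _ _ => rfl
        map_zero' := rfl
        map_add' := fun _ _ => rfl }
    obtain ⟨q, hq, hq0⟩ := Algebra.IsIntegral.isIntegral (R := ℤ) a
    refine ⟨q.map (Int.castRingHom (ZMod p)), hq.map _, ?_⟩
    rw [Polynomial.eval₂_map]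
    have h := congrArg f hq0
    rw [Polynomial.hom_eval₂, map_zero] at h
    rw [RingHom.ext_int ((algebraMap (ZMod p) (ResField M)).comp (Int.castRingHom (ZMod p)))
      (f.comp (algebraMap ℤ AlgInt))]
    exact h
  have hfin : ∀ x : ResField M, IsIntegral (ZMod p) x → x ≠ 0 → ∃ J, 0 < J ∧ x ^ J = 1 := by
    intro x hx hx0
    haveI : Module.Finite (ZMod p) (Algebra.adjoin (ZMod p) ({x} : Set (ResField M))) :=
      Module.Finite.iff_fg.2 hx.fg_adjoin_singleton
    haveI : Finite (Algebra.adjoin (ZMod p) ({x} : Set (ResField M))) :=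
      Module.finite_of_finite (ZMod p)
    obtain ⟨i, j, hij, h⟩ := Finite.exists_ne_map_eq_of_infinite
      (fun i : ℕ => (⟨x, Algebra.self_mem_adjoin_singleton (ZMod p) x⟩ :
        Algebra.adjoin (ZMod p) ({x} : Set (ResField M))) ^ i)
    have h' : x ^ i = x ^ j := by simpa using congrArg Subtype.val h
    wlog hlt : i < j generalizing i j
    · exact this j i hij.symm h.symm h'.symm (by omega)
    refine ⟨j - i, by omega, mul_left_cancel₀ (pow_ne_zero i hx0) ?_⟩
    rw [← pow_add, mul_one, h']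
    congr 1
    omega
  obtain ⟨a, b, hb, hab⟩ := z.2
  have hb0 : red M ⟨(b : ℂ), memLocalRing_coe b⟩ ≠ 0 := fun h =>
    hb (memLocalIdeal_coe_iff.1 (red_eq_zero_iff.1 h))
  have hmul : red M z * red M ⟨(b : ℂ), memLocalRing_coe b⟩ =
      red M ⟨(a : ℂ), memLocalRing_coe a⟩ := by
    rw [← map_mul]
    congr 1
    apply Subtype.ext
    show (z : ℂ) * (b : ℂ) = (a : ℂ)
    rw [← hab, div_mul_cancel₀ _ (algInt_coe_ne_zero hb)]
  obtain ⟨J, hJ, hJ1⟩ := hfin _ (key b) hb0
  obtain ⟨J', hJ', hJ1'⟩ := hfin _ (key a) (hmul ▸ mul_ne_zero hz hb0)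
  refine ⟨J * J', Nat.mul_pos hJ hJ', ?_⟩
  have h := congrArg (· ^ (J * J')) hmul
  simp only [mul_pow] at h
  have hb1 : red M ⟨(b : ℂ), memLocalRing_coe b⟩ ^ (J * J') = 1 := by rw [pow_mul, hJ1, one_pow]
  have ha1 : red M ⟨(a : ℂ), memLocalRing_coe a⟩ ^ (J * J') = 1 := by
    rw [mul_comm J J', pow_mul, hJ1', one_pow]
  rwa [hb1, mul_one, ha1] at h

/-- Trace of a power as a weighted power sum of eigenvalues. -/
theorem exists_trace_pow_eq {V : Type*} [AddCommGroup V] [Module ℂ V] [FiniteDimensional ℂ V]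
    (f : Module.End ℂ V) :
    ∃ (S : Finset ℂ) (d : ℂ → ℕ), (∀ μ, μ ∈ S ↔ f.HasEigenvalue μ) ∧ (∀ μ ∈ S, 0 < d μ) ∧
      ∑ μ ∈ S, d μ = Module.finrank ℂ V ∧
      ∀ m : ℕ, LinearMap.trace ℂ V (f ^ m) = ∑ μ ∈ S, (d μ : ℂ) * μ ^ m := by
  classical
  have hint : DirectSum.IsInternal f.maxGenEigenspace :=
    DirectSum.isInternal_submodule_of_iSupIndep_of_iSup_eq_top f.independent_maxGenEigenspace
      (Module.End.iSup_maxGenEigenspace_eq_top f)
  have hset : {μ : ℂ | f.maxGenEigenspace μ ≠ ⊥} = {μ | f.HasEigenvalue μ} := Set.ext fun μ =>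
    Module.End.hasUnifEigenvalue_iff_hasUnifEigenvalue_one (k := ⊤) (by simp)
  have hfin : {μ : ℂ | f.maxGenEigenspace μ ≠ ⊥}.Finite := hset ▸ f.finite_hasEigenvalue
  refine ⟨hfin.toFinset, fun μ => Module.finrank ℂ (f.maxGenEigenspace μ),
    fun μ => by rw [Set.Finite.mem_toFinset, hset]; rfl, fun μ hμ => ?_, ?_⟩
  · rw [Set.Finite.mem_toFinset] at hμ
    exact Nat.pos_of_ne_zero fun h => hμ (Submodule.finrank_eq_zero.1 h)
  have main : ∀ m : ℕ, LinearMap.trace ℂ V (f ^ m) =
      ∑ μ ∈ hfin.toFinset, (Module.finrank ℂ (f.maxGenEigenspace μ) : ℂ) * μ ^ m := by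
    intro m
    have hmaps : ∀ μ, Set.MapsTo (f ^ m) (f.maxGenEigenspace μ) (f.maxGenEigenspace μ) :=
      fun μ => Module.End.mapsTo_maxGenEigenspace_of_comm ((Commute.refl f).pow_right m) μ
    rw [LinearMap.trace_eq_sum_trace_restrict' hint hfin hmaps]
    refine Finset.sum_congr rfl fun μ _ => ?_
    have hf' : Set.MapsTo f (f.maxGenEigenspace μ) (f.maxGenEigenspace μ) :=
      Module.End.mapsTo_maxGenEigenspace_of_comm rfl μ
    set g := f.restrict hf' with hg
    have hnil : IsNilpotent (g - algebraMap ℂ (Module.End ℂ (f.maxGenEigenspace μ)) μ) :=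
      Module.End.isNilpotent_restrict_maxGenEigenspace_sub_algebraMap f μ
    have hrestr : (f ^ m).restrict (hmaps μ) = g ^ m := (Module.End.pow_restrict m hf').symm
    rw [hrestr]
    have hcomm : Commute g (algebraMap ℂ (Module.End ℂ (f.maxGenEigenspace μ)) μ) :=
      (Algebra.commutes μ g).symm
    obtain ⟨q, hq, hqc⟩ : ∃ q, g ^ m - algebraMap ℂ _ (μ ^ m) =
        (g - algebraMap ℂ _ μ) * q ∧ Commute (g - algebraMap ℂ _ μ) q := by
      refine ⟨∑ i ∈ Finset.range m,
        g ^ i * algebraMap ℂ (Module.End ℂ (f.maxGenEigenspace μ)) μ ^ (m - 1 - i), ?_, ?_⟩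
      · rw [map_pow]; exact (hcomm.mul_geom_sum₂ m).symm
      · exact Commute.sum_right _ _ _ fun i _ => Commute.mul_right
          (Commute.pow_right ((Commute.refl g).sub_left hcomm.symm) i)
          (Commute.pow_right (hcomm.sub_left (Commute.refl _)) _)
    have hn0 : IsNilpotent (g ^ m - algebraMap ℂ _ (μ ^ m)) :=
      hq ▸ hqc.isNilpotent_mul_right hnil
    have h0 := LinearMap.isNilpotent_trace_of_isNilpotent hn0
    rw [isNilpotent_iff_eq_zero, map_sub, sub_eq_zero] at h0
    rw [h0, Algebra.algebraMap_eq_smul_one, map_smul, LinearMap.trace_one, smul_eq_mul, mul_comm]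
  refine ⟨?_, main⟩
  have h0 := main 0
  simp only [pow_zero, mul_one, LinearMap.trace_one] at h0
  exact_mod_cast h0.symm

variable {G : Type u} [Group G] [Fintype G]

/-- Power limits of the trace form. -/
def LimPow (p : ℕ) (M : Ideal AlgInt) (χ : G → ℂ) (x : MonoidAlgebra ℂ G) (v : ℂ) : Prop :=
  ∀ j : ℕ, 0 < j → PTends p M (fun k => grpTr χ (x ^ (j * p ^ k))) v

open Classical in
/-- `x` separates with value `u` on `χ`. -/
def Sep (p : ℕ) (M : Ideal AlgInt) (χ : G → ℂ) (x : MonoidAlgebra ℂ G) (u : Prop) : Prop :=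
  LimPow p M χ x (if u then χ 1 else 0) ∧ LimPow p M χ (1 - x) (if u then 0 else χ 1)

/-- The singular part of the trace of high powers vanishes in the limit. -/
theorem ptends_grpTr_singular (hM : IsPModular p M) (L : Subgroup G)
    {x : MonoidAlgebra ℂ G} (hx : IntCoef M x) {F : G → ℂ} (hF : IsClassFunction G F)
    (hFR : ∀ g, MemLocalRing M (F g)) (hF0 : ∀ g, RegMod p L g → F g = 0) (j : ℕ) :
    PTends p M (fun k => grpTr F (x ^ (j * p ^ k))) 0 := fun t => by
  set a := (Nat.card G).factorization p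
  refine ⟨a + t, fun k hk => ?_⟩
  have h := memLocalRing_grpTr_pow_singular hM.1 L (intCoef_pow hx j) hF hFR hF0
    (k := k) (by omega)
  rw [← pow_mul] at h
  rw [sub_zero]
  obtain ⟨s, hs⟩ : ∃ s, k - a + 1 = t + s := ⟨k - a + 1 - t, by omega⟩
  rw [hs, pow_add] at h
  have hp0 : (p : ℂ) ≠ 0 := Nat.cast_ne_zero.2 hM.1.ne_zero
  have := memLocalRing_mul (memLocalRing_pow (memLocalRing_natCast (M := M) p) s) h
  convert this using 1
  field_simp

theorem exists_pow_small (hM : IsPModular p M) {χ : G → ℂ} {n : ℕ}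
    (σ : G →* Matrix (Fin n) (Fin n) (locSubring M))
    (hσ : ∀ g, ((σ g).map (locSubring M).subtype).trace = χ g)
    {x : MonoidAlgebra ℂ G} (hx : IntCoef M x) (hlim : LimPow p M χ x 0) (t : ℕ) :
    ∃ N, ∀ m, N ≤ m → ∀ i j, MemLocalRing M
      ((MonoidAlgebra.lift ℂ (Matrix (Fin n) (Fin n) ℂ) G
        ((locSubring M).subtype.mapMatrix.toMonoidHom.comp σ) (x ^ m)) i j / (p : ℂ) ^ t) := by
  classical
  set ι := (locSubring M).subtype
  set R := MonoidAlgebra.lift ℂ (Matrix (Fin n) (Fin n) ℂ) G (ι.mapMatrix.toMonoidHom.comp σ)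
  let A : Matrix (Fin n) (Fin n) (locSubring M) :=
    ∑ g : G, (⟨x.coeff g, hx g⟩ : locSubring M) • σ g
  have hA : A.map ι = R x := by
    conv_rhs => rw [← sum_single_coeff x, map_sum]
    ext i j
    simp [A, R, Matrix.sum_apply, ι]
  have htr : ∀ z, (R z).trace = grpTr χ z := fun z => by
    conv_lhs => rw [← sum_single_coeff z, map_sum]
    rw [Matrix.trace_sum, grpTr]
    refine Finset.sum_congr rfl fun g _ => ?_
    rw [lift_single, Matrix.trace_smul, smul_eq_mul, ← hσ g]
    rfl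
  set f : Module.End ℂ (Fin n → ℂ) := Matrix.toLinAlgEquiv' (R x) with hf
  obtain ⟨S, d, hS, hd0, hdn, htrace⟩ := exists_trace_pow_eq f
  have htrf : ∀ m, LinearMap.trace ℂ _ (f ^ m) = grpTr χ (x ^ m) := fun m => by
    rw [hf, ← map_pow, ← map_pow, ← htr]
    exact Matrix.trace_toLin'_eq _
  have hmem : ∀ μ ∈ S, MemLocalRing M μ := by
    intro μ hμ
    refine memLocalRing_of_isIntegral_locSubring ⟨A.charpoly, Matrix.charpoly_monic _, ?_⟩
    rw [Polynomial.eval₂_eq_eval_map, ← Matrix.charpoly_map,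
      show A.map (algebraMap (locSubring M) ℂ) = R x from hA]
    have := (Module.End.hasEigenvalue_iff_isRoot_charpoly f μ).1 ((hS μ).1 hμ)
    rwa [hf, show Matrix.toLinAlgEquiv' (R x) = Matrix.toLin' (R x) from rfl,
      Matrix.charpoly_toLin'] at this
  -- all eigenvalues lie in the ideal
  have hsmall : ∀ μ ∈ S, MemLocalIdeal M μ := by
    by_contra hcon
    simp only [not_forall] at hcon
    obtain ⟨μ₀, hμ₀, hμ₀'⟩ := hcon
    set U := S.filter fun μ => ¬ MemLocalIdeal M μ with hU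
    have hord : ∀ μ : {μ // μ ∈ U}, ∃ J, 0 < J ∧
        red M ⟨μ.1, hmem _ (Finset.mem_filter.1 μ.2).1⟩ ^ J = 1 := fun μ =>
      exists_red_pow_eq_one hM _ fun h => (Finset.mem_filter.1 μ.2).2 (red_eq_zero_iff.1 h)
    choose J hJ hJ1 using hord
    set J₀ := ∏ μ, J μ with hJ₀
    have hJ₀pos : 0 < J₀ := Finset.prod_pos fun μ _ => hJ μ
    have hone : PTends p M (fun k => grpTr χ (x ^ (J₀ * p ^ k)))
        (∑ μ ∈ S, (d μ : ℂ) * if μ ∈ U then 1 else 0) := by
      refine (PTends.sum S (s := fun μ k => (d μ : ℂ) * μ ^ (J₀ * p ^ k)) fun μ hμ => ?_).congr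
        (K₀ := 0) fun k _ => by rw [← htrf, htrace]
      refine PTends.const_mul' hM (memLocalRing_natCast _) ?_
      split_ifs with h
      · have h1 : MemLocalIdeal M (μ ^ J₀ - 1) := by
          have hdiv : J ⟨μ, h⟩ ∣ J₀ := Finset.dvd_prod_of_mem _ (Finset.mem_univ _)
          obtain ⟨q, hq⟩ := hdiv
          have : red M ((⟨μ, hmem μ hμ⟩ : locSubring M) ^ J₀ - 1) = 0 := by
            rw [map_sub, map_pow, map_one, hq, pow_mul, hJ1 ⟨μ, h⟩, one_pow, sub_self]
          simpa using red_eq_zero_iff.1 this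
        simpa [pow_mul] using ptends_pow_of_congr_one hM (memLocalRing_pow (hmem μ hμ) J₀) h1
      · exact ptends_pow_of_mem hM (by by_contra h'; exact h (Finset.mem_filter.2 ⟨hμ, h'⟩)) hJ₀pos
    set r := ∑ μ ∈ U, d μ with hr
    have hrv : (∑ μ ∈ S, (d μ : ℂ) * if μ ∈ U then 1 else 0) = (r : ℂ) := by
      simp only [hr, mul_ite, mul_one, mul_zero, Nat.cast_sum]
      rw [← Finset.sum_filter]
      refine Finset.sum_congr (Finset.ext fun μ => ?_) fun _ _ => rfl
      simp only [hU, Finset.mem_filter]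
      tauto
    have hrn : r ≤ n := by
      calc r ≤ ∑ μ ∈ S, d μ := Finset.sum_le_sum_of_subset (Finset.filter_subset _ _)
        _ = n := by rw [hdn, Module.finrank_fin_fun]
    have hrpos : 0 < r := lt_of_lt_of_le (hd0 μ₀ hμ₀)
      (Finset.single_le_sum (fun _ _ => Nat.zero_le _) (Finset.mem_filter.2 ⟨hμ₀, hμ₀'⟩))
    have hdiff := (hone.sub hM (hlim J₀ hJ₀pos)) (n + 1)
    obtain ⟨K, hK⟩ := hdiff
    have h1 := hK K le_rfl
    simp only [sub_self, zero_sub, hrv, sub_zero] at h1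
    have h2 : MemLocalRing M ((r : ℂ) / (p : ℂ) ^ (n + 1)) := by
      have := memLocalRing_neg h1
      rwa [neg_div, neg_neg] at this
    obtain ⟨e, m, hm, hre⟩ := Nat.exists_eq_pow_mul_and_not_dvd hrpos.ne' p hM.1.ne_one
    have hlt : e < n + 1 := by
      by_contra hle
      have h3 : p ^ (n + 1) ≤ r := hre ▸ le_trans (Nat.pow_le_pow_right hM.1.pos (by omega))
        (Nat.le_mul_of_pos_right _ (Nat.pos_of_ne_zero fun h => hm (h ▸ dvd_zero p)))
      have := Nat.lt_pow_self (n := n + 1) hM.1.one_lt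
      omega
    obtain ⟨s, hs⟩ := Nat.exists_eq_add_of_lt hlt
    refine hm ((memLocalIdeal_natCast_iff hM m).1 ?_)
    have hp0 : (p : ℂ) ≠ 0 := Nat.cast_ne_zero.2 hM.1.ne_zero
    have h4 : (m : ℂ) = (p : ℂ) * ((p : ℂ) ^ s * ((r : ℂ) / (p : ℂ) ^ (n + 1))) := by
      rw [hs, hre]
      push_cast
      rw [pow_add, pow_add]
      field_simp
    rw [h4]
    exact memLocalIdeal_of_p_mul hM
      (memLocalRing_mul (memLocalRing_pow (memLocalRing_natCast p) s) h2)
  -- Cayley–Hamilton modulo the ideal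
  have hnilp : (A ^ n).map (red M) = 0 := by
    have hP : A.charpoly.map (red M) = Polynomial.X ^ n := by
      set P := (A.map ι).charpoly with hP
      have hsplit : P = (P.roots.map fun z => Polynomial.X - Polynomial.C z).prod :=
        (IsAlgClosed.splits P).eq_prod_roots_of_monic (Matrix.charpoly_monic _)
      have hroot : ∀ z ∈ P.roots, z ∈ S := fun z hz => by
        rw [hS, Module.End.hasEigenvalue_iff_isRoot_charpoly, hf,
          show Matrix.toLinAlgEquiv' (R x) = Matrix.toLin' (R x) from rfl, Matrix.charpoly_toLin']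
        have := (Polynomial.mem_roots'.1 hz).2
        rwa [hP, hA] at this
      obtain ⟨ms, hms⟩ : ∃ ms : Multiset (locSubring M), P.roots = ms.map ι := by
        refine ⟨P.roots.pmap (fun z hz => (⟨z, hz⟩ : locSubring M)) fun z hz => hmem z (hroot z hz), ?_⟩
        refine ((Multiset.map_pmap (fun x : locSubring M => ι x)
          (fun z (hz : MemLocalRing M z) => (⟨z, hz⟩ : locSubring M)) P.roots _).trans ?_).symm
        exact (Multiset.pmap_eq_map _ _ _ _).trans (Multiset.map_id' _)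
      have hTc : A.charpoly = (ms.map fun z => Polynomial.X - Polynomial.C z).prod := by
        apply Polynomial.map_injective ι (fun x y h => Subtype.ext h)
        rw [← Matrix.charpoly_map, ← hP, hsplit, hms, Polynomial.map_multiset_prod,
          Multiset.map_map, Multiset.map_map]
        simp
      have hred0 : ∀ z ∈ ms, red M z = 0 := fun z hz => red_eq_zero_iff.2
        (hsmall _ (hroot _ (hms ▸ Multiset.mem_map_of_mem _ hz)))
      have hcard : Multiset.card ms = n := by
        have hh : Multiset.card P.roots = n := by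
          rw [← (IsAlgClosed.splits P).natDegree_eq_card_roots, hP,
            Matrix.charpoly_natDegree_eq_dim, Fintype.card_fin]
        rwa [hms, Multiset.card_map] at hh
      rw [hTc, Polynomial.map_multiset_prod, Multiset.map_map,
        Multiset.map_congr rfl fun z hz => show _ = Polynomial.X by
          simp [hred0 z hz], Multiset.map_const', Multiset.prod_replicate, hcard]
    have h := Matrix.aeval_self_charpoly (A.map (red M))
    rw [Matrix.charpoly_map, hP, map_pow, Polynomial.aeval_X] at h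
    rw [← h]
    exact map_pow (red M).mapMatrix A n
  -- entries of high powers
  set I : Ideal (locSubring M) := Ideal.span (Set.range fun ij : Fin n × Fin n => (A ^ n) ij.1 ij.2)
  have hIfg : I.FG := ⟨Finset.univ.image fun ij : Fin n × Fin n => (A ^ n) ij.1 ij.2, by simp [I]⟩
  have hIrad : I ≤ (Ideal.span {((p : locSubring M)) ^ t}).radical := by
    rw [Ideal.span_le]
    rintro _ ⟨ij, rfl⟩
    have hz : MemLocalIdeal M (((A ^ n) ij.1 ij.2 : locSubring M) : ℂ) :=
      red_eq_zero_iff.1 (congrFun (congrFun hnilp ij.1) ij.2)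
    obtain ⟨N, hN⟩ := exists_pow_div_p_pow hM hz t
    refine ⟨N, Ideal.mem_span_singleton.2 ⟨⟨_, hN N le_rfl⟩, Subtype.ext ?_⟩⟩
    simp [mul_div_cancel₀ _ (pow_ne_zero t (Nat.cast_ne_zero.2 hM.1.ne_zero : (p : ℂ) ≠ 0))]
  obtain ⟨r, hr⟩ := Ideal.exists_pow_le_of_le_radical_of_fg hIrad hIfg
  have hpow : ∀ r : ℕ, ∀ i j, ((A ^ n) ^ r) i j ∈ I ^ r := by
    intro r
    induction r with
    | zero => simp
    | succ r ih =>
      intro i j
      rw [pow_succ (A ^ n), Matrix.mul_apply, pow_succ I]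
      exact Ideal.sum_mem _ fun l _ =>
        Ideal.mul_mem_mul (ih i l) (Ideal.subset_span ⟨(l, j), rfl⟩)
  refine ⟨n * r, fun m hm i j => ?_⟩
  obtain ⟨s, rfl⟩ := Nat.exists_eq_add_of_le hm
  have hmem2 : (A ^ (n * r + s)) i j ∈ Ideal.span {((p : locSubring M)) ^ t} := by
    rw [pow_add, pow_mul, Matrix.mul_apply]
    exact Ideal.sum_mem _ fun l _ => Ideal.mul_mem_right _ _ (hr (hpow r i l))
  obtain ⟨c, hc⟩ := Ideal.mem_span_singleton.1 hmem2
  have he : R (x ^ (n * r + s)) i j = (p : ℂ) ^ t * (c : ℂ) := by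
    rw [map_pow, ← hA, show (A.map ι) ^ (n * r + s) = (A ^ (n * r + s)).map ι from
      (map_pow ι.mapMatrix A _).symm, Matrix.map_apply, hc]
    simp [ι]
  rw [he, mul_div_cancel_left₀ _ (pow_ne_zero t (Nat.cast_ne_zero.2 hM.1.ne_zero : (p : ℂ) ≠ 0))]
  exact c.2

/-- **An integral separator makes the idempotent integral.** -/
theorem isRCentral_blockCoeff_of_sep (hM : IsPModular p M) {U : Set (IrrCharacter G)}
    {x : MonoidAlgebra ℂ G} (hx : IntCoef M x)
    (h : ∀ χ : IrrCharacter G, Sep p M (χ : G → ℂ) x (χ ∈ U)) :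
    IsRCentral M (blockCoeff U) := by
  classical
  haveI := Fintype.ofFinite (IrrCharacter G)
  set a := (Nat.card G).factorization p with ha
  have hmodel := fun χ : IrrCharacter G => exists_model (M := M) hM χ.2
  choose n σ hσ using hmodel
  have hN : ∀ χ : IrrCharacter G, ∃ N, ∀ m, N ≤ m → ∀ i j, MemLocalRing M
      ((MonoidAlgebra.lift ℂ (Matrix (Fin (n χ)) (Fin (n χ)) ℂ) G
        ((locSubring M).subtype.mapMatrix.toMonoidHom.comp (σ χ))
        ((if χ ∈ U then 1 - x else x) ^ m)) i j / (p : ℂ) ^ a) := fun χ => by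
    refine exists_pow_small hM (σ χ) (hσ χ) ?_ ?_ a
    · split_ifs
      exacts [intCoef_sub intCoef_one hx, hx]
    · have h1 := h χ
      rw [Sep] at h1
      split_ifs with hu
      · simpa [hu] using h1.2
      · simpa [hu] using h1.1
  choose N hN using hN
  set m := Finset.univ.sup N + 1 with hm
  set z := 1 - (1 - x ^ m) ^ m with hz
  have hzi : IntCoef M z :=
    intCoef_sub intCoef_one (intCoef_pow (intCoef_sub intCoef_one (intCoef_pow hx m)) m)
  have key : ∀ (χ : IrrCharacter G) (g : G), MemLocalRing M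
      ((grpTr (χ : G → ℂ) (z * single g 1) - if χ ∈ U then (χ : G → ℂ) g else 0) / (p : ℂ) ^ a) := by
    intro χ g
    set R := MonoidAlgebra.lift ℂ (Matrix (Fin (n χ)) (Fin (n χ)) ℂ) G
      ((locSubring M).subtype.mapMatrix.toMonoidHom.comp (σ χ)) with hR
    have htr : ∀ y, (R y).trace = grpTr (χ : G → ℂ) y := fun y => by
      conv_lhs => rw [← sum_single_coeff y, map_sum]
      rw [Matrix.trace_sum, grpTr]
      refine Finset.sum_congr rfl fun g _ => ?_
      rw [hR, lift_single, Matrix.trace_smul, smul_eq_mul, ← hσ χ g]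
      rfl
    have hint : ∀ y, IntCoef M y → ∀ i j, MemLocalRing M (R y i j) := fun y hy i j => by
      rw [← sum_single_coeff y, map_sum, Matrix.sum_apply]
      refine memLocalRing_sum _ fun b _ => ?_
      rw [hR, lift_single, Matrix.smul_apply, smul_eq_mul]
      exact memLocalRing_mul (hy b) ((σ χ b) i j).2
    obtain ⟨w, hw, hwz⟩ : ∃ w, IntCoef M w ∧ (z - if χ ∈ U then 1 else 0) =
        ((if χ ∈ U then 1 - x else x) ^ m) * w := by
      split_ifs
      · refine ⟨-((∑ i ∈ Finset.range m, x ^ i) ^ m), ?_, ?_⟩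
        · rw [← zero_sub]
          exact intCoef_sub intCoef_zero (intCoef_pow (intCoef_sum _ fun i _ => intCoef_pow hx i) m)
        · have hcm : Commute (1 - x) (∑ i ∈ Finset.range m, x ^ i) :=
            Commute.sum_right _ _ _ fun i _ =>
              ((Commute.one_left x).sub_left (Commute.refl x)).pow_right i
          rw [mul_neg, ← hcm.mul_pow, mul_neg_geom_sum, hz]
          abel
      · refine ⟨∑ i ∈ Finset.range m, (1 - x ^ m) ^ i,
          intCoef_sum _ fun i _ => intCoef_pow (intCoef_sub intCoef_one (intCoef_pow hx m)) i, ?_⟩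
        have := mul_neg_geom_sum (1 - x ^ m) m
        rw [sub_sub_cancel] at this
        rw [sub_zero, hz, this]
    have hval : (if χ ∈ U then (χ : G → ℂ) g else 0) =
        grpTr (χ : G → ℂ) ((if χ ∈ U then 1 else 0) * single g 1) := by
      split_ifs <;> simp [grpTr_single, grpTr_zero]
    rw [hval, ← grpTr_sub, ← sub_mul, hwz, ← htr, mul_assoc, map_mul, Matrix.trace,
      Finset.sum_div]
    refine memLocalRing_sum _ fun i _ => ?_
    rw [Matrix.diag_apply, Matrix.mul_apply, Finset.sum_div]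
    refine memLocalRing_sum _ fun j _ => ?_
    rw [mul_div_right_comm]
    exact memLocalRing_mul (hN χ m (le_trans (Finset.le_sup (Finset.mem_univ χ)) (by omega)) i j)
      (hint _ (intCoef_mul hw (intCoef_single g memLocalRing_one)) j i)
  refine ⟨isClassFunction_blockCoeff U, fun g => ?_⟩
  obtain ⟨b, hb, hcard⟩ : ∃ b, ¬ p ∣ b ∧ Nat.card G = p ^ a * b :=
    ⟨_, Nat.not_dvd_ordCompl hM.1 Nat.card_pos.ne',
      (Nat.ordProj_mul_ordCompl_eq_self (Nat.card G) p).symm⟩
  have hdecomp : blockCoeff U g = z.coeff g - (b : ℂ)⁻¹ * ∑ χ : IrrCharacter G,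
      (χ : G → ℂ) 1 * ((grpTr (χ : G → ℂ) (z * single g⁻¹ 1) -
        if χ ∈ U then (χ : G → ℂ) g⁻¹ else 0) / (p : ℂ) ^ a) := by
    rw [coeff_eq_sum_grpTr z g, blockCoeff_eq_finsum_inv, finsum_irr_eq_sum_ite, hcard]
    push_cast
    rw [mul_inv, Finset.mul_sum, Finset.mul_sum, Finset.mul_sum, ← Finset.sum_sub_distrib]
    refine Finset.sum_congr rfl fun χ _ => ?_
    split_ifs <;> field_simp <;> ring
  rw [hdecomp]
  exact memLocalRing_sub (hzi g) (memLocalRing_mul (memLocalRing_inv_natCast hM hb)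
    (memLocalRing_sum _ fun χ _ => memLocalRing_mul
      (memLocalRing_of_isIntegral' (isIntegral_char χ 1)) (key χ g⁻¹)))

end Cfsg.Agent.Lib.Harada
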