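import Cfsg.Agent.Lib.Harada.Idem
import Cfsg.Agent.Lib.Harada.GoodChar
import Cfsg.Agent.Lib.Characters.Clifford

/-!
# Passing a normal `p'`-section

Over a `p'`-section `P/L` the idempotents of the characters of `P` over a good `η` are congruent to
integral ones living on a `p'`-Hall subgroup, so separators on the inertia groups glue.
-/

set_option autoImplicit false
set_option linter.unusedSectionVars false
set_option linter.style.haveILetI false

namespace Cfsg.Agent.Lib.Harada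

open Cfsg Cfsg.Agent.Lib.Characters Cfsg.Agent.Lib.Blocks MonoidAlgebra
open scoped ComplexConjugate

universe u

/-- A character with a constituent over `η` is over `η`. -/
theorem over_of_constituent {A : Type u} [Group A] [Fintype A] (N : Subgroup A) [Fintype N]
    {χ ζ : A → ℂ} (hχ : IsCharacter A χ) (hζ : IsIrrCharacter A ζ) (h : classInner χ ζ ≠ 0)
    {η : N → ℂ} (hη : IsIrrCharacter N η) (h2 : classInner (fun n : N => ζ n) η ≠ 0) :
    classInner (fun n : N => χ n) η ≠ 0 := by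
  obtain ⟨ψ, hψ, he⟩ := IsCharacter.exists_add_of_classInner_ne_zero hχ hζ h
  rw [show (fun n : N => χ n) = (fun n : N => ζ n) + fun n : N => ψ n from
    funext fun n => congrFun he n]
  exact IsCharacter.classInner_ne_zero_of_add (IsCharacter.restrict (IsIrrCharacter.isCharacter hζ) N)
    (IsCharacter.restrict hψ N) (IsIrrCharacter.isCharacter hη) h2

/-- The constituents of a character that is a multiple of `η` below lie over `η`. -/
theorem constituent_over {A : Type u} [Group A] [Fintype A] (N : Subgroup A) [Fintype N]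
    {χ ζ : A → ℂ} (hχ : IsCharacter A χ) (hζ : IsIrrCharacter A ζ) (h : classInner χ ζ ≠ 0)
    {η : N → ℂ} (hη : IsIrrCharacter N η) {e : ℂ} (he : ∀ n : N, χ n = e * η n) :
    classInner (fun n : N => ζ n) η ≠ 0 := by
  obtain ⟨μ, hμ⟩ := IsCharacter.exists_constituent
    (IsCharacter.restrict (IsIrrCharacter.isCharacter hζ) N)
    (fun h0 => IsIrrCharacter.apply_one_ne_zero hζ (congrFun h0 (1 : N)))
  have h1 := over_of_constituent N hχ hζ h μ.2 hμ
  rw [show (fun n : N => χ n) = e • η from funext he, classInner_smul_left] at h1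
  have : η = (μ : N → ℂ) := by
    by_contra hne
    exact (mul_ne_zero_iff.1 h1).2 (IsIrrCharacter.classInner_ne hη μ.2 hne)
  rwa [this]

variable {G : Type u} [Group G] [Fintype G] {p : ℕ} (P : Subgroup G) [P.Normal] [Fintype P]

/-- The idempotent of a character of `P` in the group algebra of `G`. -/
noncomputable def upIdem (ζ : IrrCharacter P) : MonoidAlgebra ℂ G := incl P (idem (ζ : P → ℂ))

/-- The idempotent of its restriction to `K`. -/
noncomputable def hallIdem (K : Subgroup P) [Fintype K] (ζ : IrrCharacter P) : MonoidAlgebra ℂ G :=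
  incl P (incl K (idem fun k : K => (ζ : P → ℂ) k))

theorem grpTr_upIdem (χ : G → ℂ) (ζ : IrrCharacter P) :
    grpTr χ (upIdem P ζ) = (ζ : P → ℂ) 1 * classInner (fun x : P => χ x) (ζ : P → ℂ) := by
  rw [upIdem, grpTr_incl, grpTr_idem]

open Classical in
theorem upIdem_mul_upIdem (ζ ζ' : IrrCharacter P) :
    upIdem P ζ * upIdem P ζ' = if ζ = ζ' then upIdem P ζ else 0 := by
  rw [upIdem, upIdem, ← map_mul, idem_mul_idem]
  split_ifs
  · rfl
  · rw [map_zero]

theorem annOn_upIdem {χ : G → ℂ} (hχ : IsCharacter G χ) {ζ : IrrCharacter P}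
    (h : classInner (fun x : P => χ x) (ζ : P → ℂ) = 0) : AnnOn χ (upIdem P ζ) := by
  classical
  refine annOn_of_idempotent hχ ?_ (by rw [grpTr_upIdem, h, mul_zero])
  rw [upIdem_mul_upIdem, if_pos rfl]

theorem upIdem_commute_single {ζ : IrrCharacter P} {t : G} (ht : t ∈ inertia P (ζ : P → ℂ))
    (a : ℂ) : upIdem P ζ * single t a = single t a * upIdem P ζ := by
  rw [upIdem, incl_idem]
  refine el_commute_single P (fun h => Subgroup.Normal.conj_mem inferInstance _ h.2 t)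
    (fun h => ?_) a
  simp only [coef]
  rw [show (ζ : P → ℂ) ⟨t * h * t⁻¹, _⟩ = (ζ : P → ℂ) h from
    congrFun ((mem_inertia_iff P).1 ht) h]

theorem intCoef_hallIdem {M : Ideal AlgInt} [M.IsPrime] (hM : IsPModular p M) {K : Subgroup P}
    [Fintype K] (hK : ¬ p ∣ Nat.card K) (ζ : IrrCharacter P) : IntCoef M (hallIdem P K ζ) := by
  refine intCoef_incl P (intCoef_incl K ?_)
  rw [idem]
  refine intCoef_sum _ fun k _ => intCoef_single _ (memLocalRing_mul
    (memLocalRing_inv_natCast hM hK) (memLocalRing_mul ?_ ?_))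
  · exact memLocalRing_of_isIntegral' (isIntegral_char ζ 1)
  · exact memLocalRing_of_isIntegral' (isIntegral_conj_char ζ k)

/-- **The idempotent is congruent to the integral one on a Hall subgroup.** -/
theorem congOn_hallIdem [hp : Fact p.Prime] (N : Subgroup P) [N.Normal] [Fintype N] {η : N → ℂ}
    (hη : IsIrrCharacter N η) (hgood : GoodChar p η) (hidx : N.index.Coprime p) {K : Subgroup P}
    [Fintype K] (hK : ¬ p ∣ Nat.card K) {a : ℕ} (ha : K.index = p ^ a) {χ : G → ℂ}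
    (hχ : IsCharacter G χ) {e : ℂ} (he : ∀ n : N, χ ((n : P) : G) = e * η n) (ζ : IrrCharacter P)
    {e' : ℂ} (he' : ∀ n : N, (ζ : P → ℂ) n = e' * η n) :
    CongOn χ (hallIdem P K ζ) (upIdem P ζ) := by
  classical
  set χP : P → ℂ := fun x => χ x with hχP
  have hχPc : IsCharacter P χP := IsCharacter.restrict hχ P
  have hζc : IsCharacter P (ζ : P → ℂ) := irr_isCharacter ζ
  have hself : classInner (fun k : K => (ζ : P → ℂ) k) (fun k : K => (ζ : P → ℂ) k) = 1 := by
    rw [hgood.classInner_restrict N hη hidx hK ha hζc hζc he' he',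
      IsIrrCharacter.classInner_self ζ.2]
  have hirr : IsIrrCharacter K fun k : K => (ζ : P → ℂ) k :=
    (IsCharacter.isIrr_iff (IsCharacter.restrict hζc K)).2 hself
  set d₀ : MonoidAlgebra ℂ P := incl K (idem fun k : K => (ζ : P → ℂ) k) with hd₀
  set e₀ : MonoidAlgebra ℂ P := idem (ζ : P → ℂ) with he₀
  have hde : Commute e₀ d₀ := idem_commute ζ d₀
  have hdd : d₀ * d₀ = d₀ := by
    rw [hd₀, ← map_mul]
    have := idem_mul_idem (⟨_, hirr⟩ : IrrCharacter K) ⟨_, hirr⟩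
    rw [if_pos rfl] at this
    exact congrArg _ this
  have hee : e₀ * e₀ = e₀ := by
    have := idem_mul_idem ζ ζ
    rwa [if_pos rfl] at this
  set m := classInner χP (ζ : P → ℂ) with hm
  have htd : grpTr χP d₀ = (ζ : P → ℂ) 1 * m := by
    rw [hd₀, grpTr_incl, grpTr_idem, hgood.classInner_restrict N hη hidx hK ha hχPc hζc he he']
    rfl
  have hte : grpTr χP e₀ = (ζ : P → ℂ) 1 * m := grpTr_idem _ _
  have htde : grpTr χP (e₀ * d₀) = (ζ : P → ℂ) 1 * m := by
    rw [he₀, grpTr_idem_mul hχPc ζ, hd₀, grpTr_incl, grpTr_idem, hself]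
    simp only [OneMemClass.coe_one, mul_one]
    exact mul_comm _ _
  have hab : ∀ x : MonoidAlgebra ℂ P, x * x = x → x * (e₀ * d₀) = e₀ * d₀ →
      (e₀ * d₀) * x = e₀ * d₀ → grpTr χP x = (ζ : P → ℂ) 1 * m →
      CongOn χ (incl P x) (incl P (e₀ * d₀)) := by
    intro x hx h1 h2 ht
    refine annOn_of_idempotent hχ ?_ ?_
    · rw [← map_sub, ← map_mul, sub_mul, mul_sub, mul_sub, hx, h1, h2,
        show e₀ * d₀ * (e₀ * d₀) = e₀ * d₀ by
          rw [mul_assoc, ← mul_assoc d₀, ← hde.eq, mul_assoc e₀ d₀, hdd, ← mul_assoc, hee],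
        sub_self, sub_zero]
    · rw [← map_sub, grpTr_incl, grpTr_sub, ht, htde, sub_self]
  have hd : CongOn χ (incl P d₀) (incl P (e₀ * d₀)) := by
    refine hab d₀ hdd ?_ ?_ htd
    · rw [← mul_assoc, ← hde.eq, mul_assoc, hdd]
    · rw [mul_assoc, hdd]
  have he2 : CongOn χ (incl P e₀) (incl P (e₀ * d₀)) := by
    refine hab e₀ hee ?_ ?_ hte
    · rw [← mul_assoc, hee]
    · rw [mul_assoc, ← hde.eq, ← mul_assoc, hee]
  exact hd.trans he2.symm

open Classical in
/-- The idempotents over `η` sum to the identity on the characters over `η`. -/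
theorem congOn_sum_upIdem [Fintype (IrrCharacter P)] (N : Subgroup P) [Fintype N]
    {η : N → ℂ} (hη : IsIrrCharacter N η) {χ : G → ℂ} (hχ : IsCharacter G χ) {e : ℂ}
    (he : ∀ n : N, χ ((n : P) : G) = e * η n) :
    CongOn χ 1 (∑ ζ ∈ Finset.univ.filter (fun ζ : IrrCharacter P => Over N η (ζ : P → ℂ)),
        upIdem P ζ) ∧
      ∑ ζ ∈ Finset.univ.filter (fun ζ : IrrCharacter P => Over N η (ζ : P → ℂ)),
        grpTr χ (upIdem P ζ) = χ 1 := by
  set Ω := Finset.univ.filter fun ζ : IrrCharacter P => Over N η (ζ : P → ℂ) with hΩ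
  have hχPc := IsCharacter.restrict hχ P
  have hsum : ∑ ζ ∈ Ω, grpTr χ (upIdem P ζ) = χ 1 := by
    have h1 := congrFun (eq_sum_classInner (IsCharacter.isClassFunction hχPc)) 1
    simp only [OneMemClass.coe_one, Finset.sum_apply, Pi.smul_apply, smul_eq_mul] at h1
    rw [h1, Finset.sum_subset (Finset.subset_univ Ω) fun ζ _ hζ => ?_]
    · exact Finset.sum_congr rfl fun ζ _ => by rw [grpTr_upIdem, mul_comm]
    · rw [grpTr_upIdem]
      by_cases h0 : classInner (fun x : P => χ x) (ζ : P → ℂ) = 0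
      · rw [h0, mul_zero]
      · exact absurd (show ζ ∈ Ω from Finset.mem_filter.2 ⟨Finset.mem_univ _,
          constituent_over N hχPc ζ.2 h0 hη he⟩) hζ
  refine ⟨annOn_of_idempotent hχ ?_ ?_, hsum⟩
  · have h2 : (∑ ζ ∈ Ω, upIdem P ζ) * ∑ ζ ∈ Ω, upIdem P ζ = ∑ ζ ∈ Ω, upIdem P ζ := by
      have := sum_idem_mul_pow Ω (upIdem P) (fun _ => 1)
        (fun i _ => by rw [upIdem_mul_upIdem, if_pos rfl])
        (fun i _ j _ hij => by rw [upIdem_mul_upIdem, if_neg hij])
        (fun i _ => Commute.one_right _) 1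
      simpa [sq] using this
    rw [mul_sub, sub_mul, sub_mul, one_mul, mul_one, h2, one_mul, sub_self, sub_zero]
  · rw [grpTr_sub, grpTr_one, grpTr_sum, hsum, sub_self]

open Classical in
/-- The Clifford correspondent as a component. -/
theorem exists_correspondent {χ : G → ℂ} (hχ : IsIrrCharacter G χ) (ζ : IrrCharacter P)
    (hm : classInner (fun x : P => χ x) (ζ : P → ℂ) ≠ 0) (T : Subgroup G) [Fintype T]
    (hT : inertia P (ζ : P → ℂ) = T) [Fintype (P.subgroupOf T)]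
    (ζ₁ : IrrCharacter (P.subgroupOf T))
    (hζ₁ : ∀ x : P.subgroupOf T, (ζ₁ : P.subgroupOf T → ℂ) x = (ζ : P → ℂ) ⟨(x : T), x.2⟩) :
    ∃ ξ : IrrCharacter T, indFun T (ξ : T → ℂ) = χ ∧
      Over (P.subgroupOf T) (ζ₁ : P.subgroupOf T → ℂ) (ξ : T → ℂ) ∧
      (∀ t : T, ∑ x : P, coef P ζ x * χ ((x : G) * (t : G)) = (ξ : T → ℂ) t) ∧
      ∀ ξ' : IrrCharacter T, Over (P.subgroupOf T) (ζ₁ : P.subgroupOf T → ℂ) (ξ' : T → ℂ) →
        indFun T (ξ' : T → ℂ) = χ → ξ' = ξ := by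
  have hPT : P ≤ T := hT ▸ le_inertia P (irr_isClassFunction ζ)
  obtain ⟨ξ₀, hξ₀, hind, hmult⟩ := exists_clifford_correspondent P hχ ζ.2 hm T hT hPT
  set ξ : IrrCharacter T := ⟨ξ₀, hξ₀⟩
  let eP : P.subgroupOf T ≃* P := Subgroup.subgroupOfEquivOfLe hPT
  have hζfun : (ζ₁ : P.subgroupOf T → ℂ) = (ζ : P → ℂ) ∘ eP := funext hζ₁
  have hinner : ∀ f : T → ℂ, classInner (fun x : P.subgroupOf T => f x)
      (ζ₁ : P.subgroupOf T → ℂ) = classInner (fun x : P => f ⟨x, hPT x.2⟩) (ζ : P → ℂ) := by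
    intro f
    rw [hζfun, ← classInner_comp_equiv eP (fun x : P => f ⟨x, hPT x.2⟩) (ζ : P → ℂ)]
    rfl
  haveI := Fintype.ofFinite (IrrCharacter T)
  have hχc := IsIrrCharacter.isCharacter hχ
  obtain ⟨n, hn, hn'⟩ := IsCharacter.exists_nat_decomp (IsCharacter.restrict hχc T)
  have hn1 : ∀ φ : IrrCharacter T, indFun T (φ : T → ℂ) = χ → n φ = 1 := by
    intro φ hφ
    have h1 := classInner_indFun_right T (φ : T → ℂ) (IsCharacter.isClassFunction hχc)
    rw [hn', hφ, IsIrrCharacter.classInner_self hχ] at h1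
    exact_mod_cast h1.symm
  choose f hf using fun φ : IrrCharacter T => IsCharacter.exists_classInner_nat
    (IsCharacter.restrict (irr_isCharacter φ) (P.subgroupOf T)) (irr_isCharacter ζ₁)
  obtain ⟨m, hmm⟩ := IsCharacter.exists_classInner_nat (IsCharacter.restrict hχc P)
    (irr_isCharacter ζ)
  have hfξ : f ξ = m := by
    have h1 : (f ξ : ℂ) = m := by rw [← hf, hinner, ← hmm]; exact hmult
    exact_mod_cast h1
  have hχT : ∀ t : T, χ (t : G) = ∑ φ : IrrCharacter T, (n φ : ℂ) * (φ : T → ℂ) t := fun t => by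
    simpa using congrFun hn t
  have hsum : m = ∑ φ, n φ * f φ := by
    have h1 : (m : ℂ) = ((∑ φ, n φ * f φ : ℕ) : ℂ) := by
      rw [← hmm, show (fun x : P => χ x) = fun x : P => (fun t : T => χ t) ⟨x, hPT x.2⟩ from rfl,
        ← hinner (fun t : T => χ t), show (fun x : P.subgroupOf T => χ ((x : T) : G)) =
          ∑ φ : IrrCharacter T, (n φ : ℂ) • fun x : P.subgroupOf T => (φ : T → ℂ) x from
          funext fun x => by simpa using hχT x, classInner_sum_left]
      simp only [classInner_smul_left, hf]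
      push_cast
      rfl
    exact_mod_cast h1
  have huniq : ∀ φ : IrrCharacter T, φ ≠ ξ → n φ ≠ 0 → f φ = 0 := by
    intro φ hne hnφ
    rw [← Finset.add_sum_erase _ _ (Finset.mem_univ ξ), hn1 ξ hind, hfξ, one_mul] at hsum
    have h0 : ∑ φ ∈ Finset.univ.erase ξ, n φ * f φ = 0 := by omega
    exact (Nat.mul_eq_zero.1 (Finset.sum_eq_zero_iff.1 h0 φ
      (Finset.mem_erase.2 ⟨hne, Finset.mem_univ _⟩))).resolve_left hnφ
  have hm0 : m ≠ 0 := fun h0 => hm (by rw [hmm, h0, Nat.cast_zero])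
  have hinv : ∀ t : T, conjFun (P.subgroupOf T) t (ζ₁ : P.subgroupOf T → ℂ) =
      (ζ₁ : P.subgroupOf T → ℂ) := by
    intro t
    have h1 : (t : G) ∈ inertia P (ζ : P → ℂ) := hT.symm ▸ t.2
    rw [hζfun]
    funext x
    exact congrFun ((mem_inertia_iff P).mp h1) (eP x)
  have hover : Over (P.subgroupOf T) (ζ₁ : P.subgroupOf T → ℂ) (ξ : T → ℂ) := by
    rw [Over, hf, hfξ, Nat.cast_ne_zero]
    exact hm0
  refine ⟨ξ, hind, hover, fun t => ?_, fun ξ' ho hi => ?_⟩
  · have hcoef : ∀ y : P.subgroupOf T, coef (P.subgroupOf T) ζ₁ y = coef P ζ (eP y) := fun y => by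
      simp only [coef, Nat.card_congr eP.toEquiv, hζfun, Function.comp_apply, map_one]
    calc ∑ x : P, coef P ζ x * χ ((x : G) * (t : G))
        = ∑ y : P.subgroupOf T, coef (P.subgroupOf T) ζ₁ y * χ (((y : T) * t : T) : G) := by
          refine (Fintype.sum_equiv eP.toEquiv _ _ fun y => ?_).symm
          rw [hcoef]
          rfl
      _ = ∑ φ : IrrCharacter T, (n φ : ℂ) *
            ∑ y : P.subgroupOf T, coef (P.subgroupOf T) ζ₁ y * (φ : T → ℂ) ((y : T) * t) := by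
          simp only [hχT, Finset.mul_sum]
          rw [Finset.sum_comm]
          exact Finset.sum_congr rfl fun φ _ => Finset.sum_congr rfl fun y _ => by ring
      _ = (ξ : T → ℂ) t := by
          simp only [sum_coef_mul_translate (P.subgroupOf T) hinv (Subtype.prop _)]
          rw [Finset.sum_eq_single ξ]
          · rw [if_pos hover, hn1 ξ hind, Nat.cast_one, one_mul]
          · intro φ _ hne
            by_cases hnφ : n φ = 0
            · rw [hnφ, Nat.cast_zero, zero_mul]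
            · rw [if_neg (fun h => h (by rw [hf, huniq φ hne hnφ, Nat.cast_zero])), mul_zero]
          · exact fun h => absurd (Finset.mem_univ _) h
  · by_contra hne
    exact ho (by rw [hf, huniq ξ' hne (by rw [hn1 ξ' hi]; exact one_ne_zero), Nat.cast_zero])

open Classical in
/-- **The separator step over a normal `p'`-section.** -/
theorem sep_step_pPrime [hp : Fact p.Prime] {M : Ideal AlgInt} [M.IsPrime] (hM : IsPModular p M)
    (L : Subgroup G) [L.Normal] [Fintype L] (hLP : L ≤ P) (hidx : (L.relIndex P).Coprime p)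
    {η : IrrCharacter L} (hη : ∀ g : G, conjFun L g (η : L → ℂ) = (η : L → ℂ))
    (hgood : GoodChar p (η : L → ℂ)) {K : Subgroup P} (hK : ¬ p ∣ Nat.card K) {a : ℕ}
    (ha : K.index = p ^ a) [Fintype (IrrCharacter G)] {U : Set (IrrCharacter G)}
    (hU : ∀ x : G, ¬ RegMod p L x → wsum L (η : L → ℂ) U x = 0)
    (hrec : ∀ (T : Subgroup G) [Fintype T] [Fintype (P.subgroupOf T)] [Fintype (IrrCharacter T)]
      (θ : IrrCharacter (P.subgroupOf T)),
      (∀ t : T, conjFun (P.subgroupOf T) t (θ : P.subgroupOf T → ℂ) = (θ : P.subgroupOf T → ℂ)) →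
      GoodChar p (θ : P.subgroupOf T → ℂ) → ∀ U' : Set (IrrCharacter T),
      (∀ x : T, ¬ RegMod p (P.subgroupOf T) x →
        wsum (P.subgroupOf T) (θ : P.subgroupOf T → ℂ) U' x = 0) →
      ∃ c : MonoidAlgebra ℂ T, IntCoef M c ∧ ∀ ξ : IrrCharacter T,
        Over (P.subgroupOf T) (θ : P.subgroupOf T → ℂ) (ξ : T → ℂ) →
          Sep p M (ξ : T → ℂ) c (ξ ∈ U')) :
    ∃ c : MonoidAlgebra ℂ G, IntCoef M c ∧ ∀ χ : IrrCharacter G,
      Over L (η : L → ℂ) (χ : G → ℂ) → Sep p M (χ : G → ℂ) c (χ ∈ U) := by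
  haveI := Fintype.ofFinite (IrrCharacter P)
  haveI : Fintype K := Fintype.ofFinite _
  haveI : Fintype (L.subgroupOf P) := Fintype.ofFinite _
  let N : Subgroup P := L.subgroupOf P
  let eL : N ≃* L := Subgroup.subgroupOfEquivOfLe hLP
  set η₁ : N → ℂ := (η : L → ℂ) ∘ eL with hη₁
  have hη₁irr : IsIrrCharacter N η₁ := IsIrrCharacter.comp_equiv η.2 eL
  have hgood₁ : GoodChar p η₁ := hgood.comp_equiv (irr_isCharacter η) eL
  have hη₁inv : ∀ x : P, conjFun N x η₁ = η₁ := fun x => funext fun n => congrFun (hη (x : G)) (eL n)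
  set Ω := Finset.univ.filter fun ζ : IrrCharacter P => Over N η₁ (ζ : P → ℂ) with hΩ
  have hres : ∀ ζ ∈ Ω, ∃ e : ℕ, ∀ n : N, (ζ : P → ℂ) n = (e : ℂ) * η₁ n := by
    intro ζ hζ
    obtain ⟨e, he⟩ := IsCharacter.exists_classInner_nat
      (IsCharacter.restrict (irr_isCharacter ζ) N) (IsIrrCharacter.isCharacter hη₁irr)
    refine ⟨e, fun n => ?_⟩
    have h1 := congrFun (restrict_eq_smul_of_invariant N ζ.2 hη₁irr hη₁inv
      (Finset.mem_filter.1 hζ).2) n
    rw [he] at h1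
    exact h1
  -- the separators on the inertia groups
  let T : IrrCharacter P → Subgroup G := fun ζ => inertia P (ζ : P → ℂ)
  haveI : ∀ ζ, Fintype (T ζ) := fun ζ => Fintype.ofFinite _
  have hPT : ∀ ζ, P ≤ T ζ := fun ζ => le_inertia P (irr_isClassFunction ζ)
  haveI : ∀ ζ, Fintype (P.subgroupOf (T ζ)) := fun ζ => Fintype.ofFinite _
  let ζ₁ : ∀ ζ : IrrCharacter P, IrrCharacter (P.subgroupOf (T ζ)) := fun ζ =>
    ⟨(ζ : P → ℂ) ∘ Subgroup.subgroupOfEquivOfLe (hPT ζ), IsIrrCharacter.comp_equiv ζ.2 _⟩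
  let U' : ∀ ζ : IrrCharacter P, Set (IrrCharacter (T ζ)) := fun ζ =>
    {ξ | ∃ χ ∈ U, indFun (T ζ) (ξ : T ζ → ℂ) = (χ : G → ℂ)}
  have hcorr : ∀ (χ : IrrCharacter G) (ζ : IrrCharacter P),
      classInner (fun x : P => (χ : G → ℂ) x) (ζ : P → ℂ) ≠ 0 →
      ∃ ξ : IrrCharacter (T ζ), indFun (T ζ) (ξ : T ζ → ℂ) = (χ : G → ℂ) ∧
        Over (P.subgroupOf (T ζ)) (ζ₁ ζ : _ → ℂ) (ξ : T ζ → ℂ) ∧
        (∀ t : T ζ, ∑ x : P, coef P ζ x * (χ : G → ℂ) ((x : G) * (t : G)) = (ξ : T ζ → ℂ) t) ∧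
        ∀ ξ' : IrrCharacter (T ζ), Over (P.subgroupOf (T ζ)) (ζ₁ ζ : _ → ℂ) (ξ' : T ζ → ℂ) →
          indFun (T ζ) (ξ' : T ζ → ℂ) = (χ : G → ℂ) → ξ' = ξ :=
    fun χ ζ h => exists_correspondent P χ.2 ζ h (T ζ) rfl (ζ₁ ζ) fun x => rfl
  have hexc : ∀ ζ : IrrCharacter P, ∃ c : MonoidAlgebra ℂ (T ζ), IntCoef M c ∧ (ζ ∈ Ω →
      ∀ ξ : IrrCharacter (T ζ), Over (P.subgroupOf (T ζ)) (ζ₁ ζ : _ → ℂ) (ξ : T ζ → ℂ) →
        Sep p M (ξ : T ζ → ℂ) c (ξ ∈ U' ζ)) := by
    intro ζ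
    by_cases hζ : ζ ∈ Ω
    swap
    · exact ⟨0, intCoef_zero, fun h => absurd h hζ⟩
    haveI := Fintype.ofFinite (IrrCharacter (T ζ))
    obtain ⟨e, he⟩ := hres ζ hζ
    have hinv₁ : ∀ t : T ζ, conjFun (P.subgroupOf (T ζ)) t (ζ₁ ζ : _ → ℂ) = (ζ₁ ζ : _ → ℂ) :=
      fun t => funext fun x =>
        congrFun ((mem_inertia_iff P).mp t.2) (Subgroup.subgroupOfEquivOfLe (hPT ζ) x)
    have hgoodζ : GoodChar p ((ζ : P → ℂ) ∘ Subgroup.subgroupOfEquivOfLe (hPT ζ)) :=
      (hgood₁.of_over N hη₁irr hidx ζ.2 he).comp_equiv (irr_isCharacter ζ)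
        (Subgroup.subgroupOfEquivOfLe (hPT ζ))
    suffices hv : ∀ x : T ζ, ¬ RegMod p (P.subgroupOf (T ζ)) x →
        wsum (P.subgroupOf (T ζ)) (ζ₁ ζ : P.subgroupOf (T ζ) → ℂ) (U' ζ) x = 0 by
      obtain ⟨c, hc, hsep⟩ := hrec (T ζ) (ζ₁ ζ) hinv₁ hgoodζ (U' ζ) hv
      exact ⟨c, hc, fun _ => hsep⟩
    intro t ht
    have hzero : ∑ x : P, coef P ζ x * wsum L (η : L → ℂ) U ((x : G) * (t : G)) = 0 := by
      refine Finset.sum_eq_zero fun x _ => ?_
      rw [hU _ fun h => ht ?_, mul_zero]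
      obtain ⟨k, hk, hk'⟩ := (regMod_mul_mem x.2).1 (regMod_mono hLP h)
      exact ⟨k, hk, hk'⟩
    have hcomp : ∀ χ : IrrCharacter G,
        classInner (fun x : P => (χ : G → ℂ) x) (ζ : P → ℂ) = 0 →
        ∑ x : P, coef P ζ x * (χ : G → ℂ) ((x : G) * (t : G)) = 0 := by
      intro χ h0
      rw [← grpTr_el_mul_single, ← incl_idem]
      exact annOn_upIdem P (irr_isCharacter χ) h0 _
    set S := Finset.univ.filter fun χ : IrrCharacter G =>
      χ ∈ U ∧ classInner (fun x : P => (χ : G → ℂ) x) (ζ : P → ℂ) ≠ 0 with hS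
    have hmover : ∀ χ : IrrCharacter G,
        classInner (fun x : P => (χ : G → ℂ) x) (ζ : P → ℂ) ≠ 0 →
        Over L (η : L → ℂ) (χ : G → ℂ) := by
      intro χ h
      have h1 := over_of_constituent N (IsCharacter.restrict (irr_isCharacter χ) P) ζ.2 h hη₁irr
        (Finset.mem_filter.1 hζ).2
      rw [Over, ← classInner_comp_equiv eL]
      exact h1
    have hS1 : ∑ χ ∈ S, (χ : G → ℂ) 1 *
        ∑ x : P, coef P ζ x * (χ : G → ℂ) ((x : G) * (t : G)) = 0 := by
      rw [← hzero, hS, Finset.sum_filter]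
      simp only [wsum, Finset.mul_sum]
      rw [Finset.sum_comm]
      refine Finset.sum_congr rfl fun χ _ => ?_
      by_cases h1 : χ ∈ U ∧ Over L (η : L → ℂ) (χ : G → ℂ)
      · simp only [if_pos h1]
        by_cases h2 : classInner (fun x : P => (χ : G → ℂ) x) (ζ : P → ℂ) = 0
        · rw [if_neg (fun h => h.2 h2), eq_comm]
          calc ∑ x : P, coef P ζ x * ((χ : G → ℂ) 1 * (χ : G → ℂ) ((x : G) * (t : G)))
              = (χ : G → ℂ) 1 * ∑ x : P, coef P ζ x * (χ : G → ℂ) ((x : G) * (t : G)) := by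
                rw [Finset.mul_sum]; exact Finset.sum_congr rfl fun x _ => by ring
            _ = 0 := by rw [hcomp χ h2, mul_zero]
        · rw [if_pos ⟨h1.1, h2⟩]
          exact Finset.sum_congr rfl fun x _ => by ring
      · simp only [if_neg h1, mul_zero, Finset.sum_const_zero]
        rw [if_neg fun h => h1 ⟨h.1, hmover χ h.2⟩]
    choose ξf hξind hξover hξcomp hξu using fun (χ : IrrCharacter G) (h : χ ∈ S) =>
      hcorr χ ζ (Finset.mem_filter.1 h).2.2
    have hidx0 : ((T ζ).index : ℂ) ≠ 0 := Nat.cast_ne_zero.2 Subgroup.index_ne_zero_of_finite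
    refine mul_left_cancel₀ hidx0 ?_
    have hw : wsum (P.subgroupOf (T ζ)) (ζ₁ ζ : P.subgroupOf (T ζ) → ℂ) (U' ζ) t =
        ∑ ξ ∈ Finset.univ.filter (fun ξ : IrrCharacter (T ζ) => ξ ∈ U' ζ ∧
          Over (P.subgroupOf (T ζ)) (ζ₁ ζ : P.subgroupOf (T ζ) → ℂ) (ξ : T ζ → ℂ)),
          (ξ : T ζ → ℂ) 1 * (ξ : T ζ → ℂ) t := by
      unfold wsum
      rw [Finset.sum_filter]
      refine Finset.sum_congr rfl fun ξ _ => ?_
      split_ifs <;> rfl
    rw [mul_zero, ← hS1, hw, Finset.mul_sum]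
    refine (Finset.sum_bij ξf (fun χ h => ?_) (fun χ h χ' h' he => ?_) (fun ξ hξ => ?_)
      fun χ h => ?_).symm
    · exact Finset.mem_filter.2 ⟨Finset.mem_univ _,
        ⟨χ, (Finset.mem_filter.1 h).2.1, hξind χ h⟩, hξover χ h⟩
    · refine Subtype.ext ?_
      rw [← hξind χ h, ← hξind χ' h', he]
    · obtain ⟨⟨χ, hχU, hi⟩, ho⟩ := (Finset.mem_filter.1 hξ).2
      have hne : classInner (fun x : P => (χ : G → ℂ) x) (ζ : P → ℂ) ≠ 0 := by
        have h1 : classInner (fun y : T ζ => (χ : G → ℂ) y) (ξ : T ζ → ℂ) ≠ 0 := by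
          rw [← classInner_indFun_right (T ζ) _ (irr_isClassFunction χ), hi,
            IsIrrCharacter.classInner_self χ.2]
          exact one_ne_zero
        have h2 := over_of_constituent (P.subgroupOf (T ζ))
          (IsCharacter.restrict (irr_isCharacter χ) (T ζ)) ξ.2 h1 (ζ₁ ζ).2 ho
        rw [← classInner_comp_equiv (Subgroup.subgroupOfEquivOfLe (hPT ζ))]
        exact h2
      have hχS : χ ∈ S := Finset.mem_filter.2 ⟨Finset.mem_univ _, hχU, hne⟩
      exact ⟨χ, hχS, (hξu χ hχS ξ ho hi).symm⟩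
    · rw [hξcomp χ h t, ← hξind χ h, indFun_one, mul_assoc]
  choose cz hczI hczS using hexc
  -- glue
  let z : IrrCharacter P → MonoidAlgebra ℂ G := fun ζ => incl (T ζ) (cz ζ)
  refine ⟨∑ ζ ∈ Ω, hallIdem P K ζ * z ζ, intCoef_sum _ fun ζ _ =>
    intCoef_mul (intCoef_hallIdem P hM hK ζ) (intCoef_incl _ (hczI ζ)), fun χ hχ => ?_⟩
  set e := classInner (fun n : L => (χ : G → ℂ) n) (η : L → ℂ) with he
  have heN : ∀ n : N, (χ : G → ℂ) ((n : P) : G) = e * η₁ n := fun n =>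
    congrFun (Over.restrict L hη χ.2 hχ) (eL n)
  have hχc := irr_isCharacter χ
  have hcl := irr_isClassFunction χ
  have hcong : ∀ ζ ∈ Ω, CongOn (χ : G → ℂ) (hallIdem P K ζ) (upIdem P ζ) := fun ζ hζ => by
    obtain ⟨e', he'⟩ := hres ζ hζ
    exact congOn_hallIdem P N hη₁irr hgood₁ hidx hK ha hχc heN ζ he'
  obtain ⟨hone, hsum⟩ := congOn_sum_upIdem P N hη₁irr hχc heN
  set c := ∑ ζ ∈ Ω, hallIdem P K ζ * z ζ with hcdef
  have hc : CongOn (χ : G → ℂ) c (∑ ζ ∈ Ω, upIdem P ζ * z ζ) :=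
    CongOn.sum Ω fun ζ hζ => (hcong ζ hζ).mul hcl (CongOn.refl _ _)
  have hc' : CongOn (χ : G → ℂ) (1 - c) (∑ ζ ∈ Ω, upIdem P ζ * incl (T ζ) (1 - cz ζ)) := by
    have h := hone.sub hc
    simpa only [map_sub, map_one, mul_sub, mul_one, Finset.sum_sub_distrib, z] using h
  -- the limits
  have key : ∀ (w : ∀ ζ, MonoidAlgebra ℂ (T ζ)) (x : MonoidAlgebra ℂ G),
      CongOn (χ : G → ℂ) x (∑ ζ ∈ Ω, upIdem P ζ * incl (T ζ) (w ζ)) →
      ∀ R : Prop, (∀ ζ ∈ Ω, ∀ ξ : IrrCharacter (T ζ),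
        Over (P.subgroupOf (T ζ)) (ζ₁ ζ : _ → ℂ) (ξ : T ζ → ℂ) →
        indFun (T ζ) (ξ : T ζ → ℂ) = (χ : G → ℂ) →
        LimPow p M (ξ : T ζ → ℂ) (w ζ) (if R then (ξ : T ζ → ℂ) 1 else 0)) →
      LimPow p M (χ : G → ℂ) x (if R then (χ : G → ℂ) 1 else 0) := by
    intro w x hx R hw j hj
    have hpow : ∀ k, grpTr (χ : G → ℂ) (x ^ (j * p ^ k)) =
        ∑ ζ ∈ Ω, grpTr (χ : G → ℂ) (upIdem P ζ * incl (T ζ) (w ζ ^ (j * p ^ k))) := by
      intro k
      obtain ⟨n, hn⟩ : ∃ n, j * p ^ k = n + 1 :=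
        ⟨j * p ^ k - 1, by have := Nat.mul_pos hj (pow_pos hp.out.pos k); omega⟩
      rw [(hx.pow hcl _).tr_eq, hn, sum_idem_mul_pow Ω (upIdem P) (fun ζ => incl (T ζ) (w ζ))
        (fun i _ => by rw [upIdem_mul_upIdem, if_pos rfl])
        (fun i _ j _ hij => by rw [upIdem_mul_upIdem, if_neg hij])
        (fun i _ => commute_incl (T i) (fun t a => upIdem_commute_single P t.2 a) _), grpTr_sum]
      exact Finset.sum_congr rfl fun ζ _ => by rw [map_pow]
    have hlim : ∀ ζ ∈ Ω, PTends p M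
        (fun k => grpTr (χ : G → ℂ) (upIdem P ζ * incl (T ζ) (w ζ ^ (j * p ^ k))))
        (if R then grpTr (χ : G → ℂ) (upIdem P ζ) else 0) := by
      intro ζ hζ
      by_cases hm0 : classInner (fun y : P => (χ : G → ℂ) y) (ζ : P → ℂ) = 0
      · have hann := annOn_upIdem P hχc hm0
        have ht : grpTr (χ : G → ℂ) (upIdem P ζ) = 0 := by simpa using hann 1
        simp only [ht, ite_self, hann _]
        exact PTends.const 0
      · obtain ⟨ξ, hind, hover, hcompt, -⟩ := hcorr χ ζ hm0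
        have htr : ∀ y : MonoidAlgebra ℂ (T ζ),
            grpTr (χ : G → ℂ) (upIdem P ζ * incl (T ζ) y) = grpTr (ξ : T ζ → ℂ) y := by
          intro y
          rw [incl_eq_el, el, Finset.mul_sum, grpTr_sum, grpTr]
          refine Finset.sum_congr rfl fun t _ => ?_
          rw [show single (t : G) (y.coeff t) = y.coeff t • single (t : G) (1 : ℂ) by
              rw [smul_single', mul_one],
            mul_smul_comm, grpTr_smul, upIdem, incl_idem, grpTr_el_mul_single, hcompt]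
        have h1 : grpTr (χ : G → ℂ) (upIdem P ζ) = (ξ : T ζ → ℂ) 1 := by
          rw [← grpTr_one (ξ : T ζ → ℂ), ← htr 1, map_one, mul_one]
        rw [h1]
        simp only [htr]
        exact hw ζ hζ ξ hover hind j hj
    have := PTends.sum Ω hlim
    have hval : ∑ ζ ∈ Ω, (if R then grpTr (χ : G → ℂ) (upIdem P ζ) else 0) =
        if R then (χ : G → ℂ) 1 else 0 := by
      split_ifs
      · exact hsum
      · exact Finset.sum_const_zero
    rw [hval] at this
    exact this.congr (K₀ := 0) fun k _ => (hpow k).symm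
  have hmemU : ∀ ζ, ∀ ξ : IrrCharacter (T ζ),
      indFun (T ζ) (ξ : T ζ → ℂ) = (χ : G → ℂ) → (ξ ∈ U' ζ ↔ χ ∈ U) := by
    intro ζ ξ hi
    refine ⟨fun ⟨χ', hχ', hi'⟩ => ?_, fun h => ⟨χ, h, hi⟩⟩
    rwa [show χ = χ' from Subtype.ext (hi.symm.trans hi')]
  refine ⟨key cz c hc _ fun ζ hζ ξ ho hi => ?_, ?_⟩
  · have := (hczS ζ hζ ξ ho).1
    simpa only [hmemU ζ ξ hi] using this
  · have := key (fun ζ => 1 - cz ζ) (1 - c) hc' (χ ∉ U) fun ζ hζ ξ ho hi => by
      have := (hczS ζ hζ ξ ho).2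
      by_cases hu : χ ∈ U
      · rw [if_neg (not_not_intro hu)]
        rwa [if_pos ((hmemU ζ ξ hi).2 hu)] at this
      · rw [if_pos hu]
        rwa [if_neg (mt (hmemU ζ ξ hi).1 hu)] at this
    by_cases hu : χ ∈ U
    · rw [if_pos hu]
      rwa [if_neg (not_not_intro hu)] at this
    · rw [if_neg hu]
      rwa [if_pos hu] at this

end Cfsg.Agent.Lib.Harada
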