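import Cfsg.Agent.Lib.Harada.StepP
import Cfsg.Agent.Lib.Harada.StepPPrime
import Cfsg.Agent.Lib.Harada.Hall
import Cfsg.Agent.S0867

/-!
# Weighted sums vanishing on singular elements in `p`-soluble groups
-/

set_option autoImplicit false
set_option linter.unusedSectionVars false
set_option linter.style.haveILetI false

namespace Cfsg.Agent.Lib.Harada

open Cfsg Cfsg.Agent.Lib.Characters Cfsg.Agent.Lib.Blocks MonoidAlgebra

universe u

variable {p : ℕ} [hp : Fact p.Prime] {M : Ideal AlgInt} [M.IsPrime]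

open Classical in
/-- One step of the base case: a character of the whole group separates itself. -/
theorem exists_separator_top {G : Type u} [Group G] [Fintype G] (L : Subgroup G) [Fintype L]
    (hL : L = ⊤) (η : IrrCharacter L) (U : Set (IrrCharacter G)) :
    ∃ c : MonoidAlgebra ℂ G, IntCoef M c ∧ ∀ χ : IrrCharacter G,
      Over L (η : L → ℂ) (χ : G → ℂ) → Sep p M (χ : G → ℂ) c (χ ∈ U) := by
  subst hL
  have huniq : ∀ χ χ' : IrrCharacter G, Over (⊤ : Subgroup G) (η : _ → ℂ) (χ : G → ℂ) →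
      Over (⊤ : Subgroup G) (η : _ → ℂ) (χ' : G → ℂ) → χ = χ' := by
    have key : ∀ χ : IrrCharacter G, Over (⊤ : Subgroup G) (η : _ → ℂ) (χ : G → ℂ) →
        ∀ g, (χ : G → ℂ) g = (η : (⊤ : Subgroup G) → ℂ) ⟨g, trivial⟩ := by
      intro χ h g
      have hirr : IsIrrCharacter (⊤ : Subgroup G)
          (fun n : (⊤ : Subgroup G) => (χ : G → ℂ) n) :=
        IsIrrCharacter.comp_equiv χ.2 Subgroup.topEquiv
      by_contra hne
      exact h (IsIrrCharacter.classInner_ne hirr η.2 fun he => hne (congrFun he ⟨g, trivial⟩))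
    exact fun χ χ' h h' => Subtype.ext (funext fun g => (key χ h g).trans (key χ' h' g).symm)
  have hlim : ∀ χ : IrrCharacter G, LimPow p M (χ : G → ℂ) 1 ((χ : G → ℂ) 1) ∧
      LimPow p M (χ : G → ℂ) 0 0 := fun χ =>
    ⟨fun j _ => by simp only [one_pow, grpTr_one]; exact PTends.const _, fun j hj => by
      simp only [zero_pow (Nat.mul_pos hj (pow_pos hp.out.pos _)).ne', grpTr_zero]
      exact PTends.const _⟩
  by_cases hex : ∃ χ ∈ U, Over (⊤ : Subgroup G) (η : _ → ℂ) (χ : G → ℂ)
  · obtain ⟨χ₀, hχ₀, ho⟩ := hex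
    refine ⟨1, intCoef_one, fun χ hχ => ?_⟩
    have hmem : χ ∈ U := huniq χ₀ χ ho hχ ▸ hχ₀
    rw [Sep, if_pos hmem, if_pos hmem, sub_self]
    exact hlim χ
  · refine ⟨0, intCoef_zero, fun χ hχ => ?_⟩
    have hmem : χ ∉ U := fun h => hex ⟨χ, h, hχ⟩
    rw [Sep, if_neg hmem, if_neg hmem, sub_zero]
    exact ⟨(hlim χ).2, (hlim χ).1⟩

/-- **Separators along a chain.** -/
theorem exists_separator (hM : IsPModular p M) : ∀ (n : ℕ) (G : Type u) [Group G] [Fintype G]
    [Fintype (IrrCharacter G)], IsPSolvable p G → ∀ (H : Fin (n + 1) → Subgroup G),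
    H (Fin.last n) = ⊤ → Monotone H → (∀ i, (H i).Normal) →
    (∀ i : Fin n, (∃ m : ℕ, (H i.castSucc).relIndex (H i.succ) = p ^ m) ∨
      ((H i.castSucc).relIndex (H i.succ)).Coprime p) →
    ∀ [(H 0).Normal] [Fintype (H 0)] (η : IrrCharacter (H 0)),
    (∀ g : G, conjFun (H 0) g (η : H 0 → ℂ) = (η : H 0 → ℂ)) → GoodChar p (η : H 0 → ℂ) →
    ∀ U : Set (IrrCharacter G),
    (∀ x : G, ¬ RegMod p (H 0) x → wsum (H 0) (η : H 0 → ℂ) U x = 0) →
    ∃ c : MonoidAlgebra ℂ G, IntCoef M c ∧ ∀ χ : IrrCharacter G,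
      Over (H 0) (η : H 0 → ℂ) (χ : G → ℂ) → Sep p M (χ : G → ℂ) c (χ ∈ U) := by
  intro n
  induction n with
  | zero =>
    intro G _ _ _ _ H hlast _ _ _ _ _ η _ _ U _
    exact exists_separator_top (H 0) hlast η U
  | succ n ih =>
    intro G _ _ _ hsol H hlast hmono hnorm hfac _ _ η hη hgood U hU
    let L : Subgroup G := H 0
    let P : Subgroup G := H (Fin.succ 0)
    haveI : P.Normal := hnorm _
    haveI : Fintype P := Fintype.ofFinite _
    have hLP : L ≤ P := hmono (Fin.zero_le _)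
    have hmono' : Monotone fun i : Fin (n + 1) => H i.succ := fun i j hij =>
      hmono (Fin.succ_le_succ_iff.2 hij)
    have hfac' : ∀ i : Fin n,
        (∃ m : ℕ, (H i.castSucc.succ).relIndex (H i.succ.succ) = p ^ m) ∨
        ((H i.castSucc.succ).relIndex (H i.succ.succ)).Coprime p := fun i => by
      rw [Fin.succ_castSucc]
      exact hfac i.succ
    obtain ⟨K₀, hK₀, a₀, ha₀⟩ := exists_pPrime_hall (isPSolvable_subgroup hsol L)
    have hηc : IsCharacter L (η : L → ℂ) := irr_isCharacter η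
    rcases hfac 0 with ⟨a, ha⟩ | hcop
    · -- a `p`-section
      let N : Subgroup P := L.subgroupOf P
      let eL : N ≃* L := Subgroup.subgroupOfEquivOfLe hLP
      obtain ⟨d, -, hd⟩ := IsIrrCharacter.exists_apply_one η.2
      have hη₁ : IsIrrCharacter N ((η : L → ℂ) ∘ eL) := IsIrrCharacter.comp_equiv η.2 eL
      have hgood₁ : GoodChar p ((η : L → ℂ) ∘ eL) := hgood.comp_equiv hηc eL
      have hdet₁ := hgood₁.detOrder_not_dvd (IsIrrCharacter.isCharacter hη₁)
      have hpd : ¬ p ∣ d := hgood.degree_not_dvd hK₀ ha₀ hd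
      have hNidx : N.index = p ^ a := ha
      obtain ⟨θ₀, ⟨hθ₀, hres₀, hord⟩, huniq⟩ := Cfsg.Agent.S0867.result N ((η : L → ℂ) ∘ eL) hη₁
        (fun g n => congrFun (hη (g : G)) (eL n)) d (by rw [← hd]; simp [map_one])
        (hNidx ▸ (Nat.Coprime.pow_left a ((Nat.Prime.coprime_iff_not_dvd hp.out).2 fun h =>
          (hp.out.dvd_mul.1 h).elim hdet₁ hpd)))
      let θ : IrrCharacter P := ⟨θ₀, hθ₀⟩
      have hres : ∀ l : L, (θ : P → ℂ) ⟨l, hLP l.2⟩ = (η : L → ℂ) l := fun l =>
        hres₀ ⟨⟨l, hLP l.2⟩, Subgroup.mem_subgroupOf.2 l.2⟩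
      have hθinv : ∀ g : G, conjFun P g (θ : P → ℂ) = (θ : P → ℂ) := by
        intro g
        refine huniq _ (IsIrrCharacter.conjFun P hθ₀ g) (fun x => ?_) ?_
        · refine Eq.trans ?_ (congrFun (hη g) (eL x))
          exact hres ⟨g * ((x : P) : G) * g⁻¹,
            Subgroup.Normal.conj_mem inferInstance _ (Subgroup.mem_subgroupOf.1 x.2) g⟩
        · have h1 : detOrder (conjFun P g θ₀) = detOrder θ₀ := by
            rw [detOrder, detOrder, conjFun_eq_comp,
              show θ₀ ∘ (MulAut.conjNormal g : MulAut P) =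
                θ₀ ∘ (MulAut.conjNormal g : MulAut P).toMonoidHom from rfl,
              detChar_comp _ (IsIrrCharacter.isCharacter hθ₀), orderOf_eq_orderOf_iff]
            intro k
            refine ⟨fun h => funext fun x => ?_, fun h => funext fun x => congrFun h _⟩
            obtain ⟨y, rfl⟩ := (MulAut.conjNormal g : MulAut P).surjective x
            exact congrFun h y
          rw [h1, hord, hNidx]
          exact Nat.Coprime.pow_left a ((Nat.Prime.coprime_iff_not_dvd hp.out).2 hdet₁)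
      have hgoodθ : GoodChar p (θ : P → ℂ) :=
        hgood₁.of_extension N hNidx (IsIrrCharacter.isCharacter hθ₀) hres₀ (hord ▸ hdet₁)
      obtain ⟨c, hc, hsep⟩ := ih G hsol (fun i => H i.succ) hlast hmono' (fun i => hnorm _) hfac'
        θ hθinv hgoodθ U fun x hx => wsum_eq_zero_step L P hLP hθinv hres hU hx
      exact ⟨c, hc, fun χ hχ => sep_step L P hM hLP ha hη hθinv hres hU hc hsep χ hχ⟩
    · -- a `p'`-section
      obtain ⟨K, hK, a, ha⟩ := exists_pPrime_hall (isPSolvable_subgroup hsol P)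
      refine sep_step_pPrime P hM L hLP hcop hη hgood hK ha hU ?_
      intro T _ _ _ θ hθ hgoodθ U' hU'
      refine ih T (isPSolvable_subgroup hsol T) (fun i => (H i.succ).subgroupOf T)
        (by show (H (Fin.last (n + 1))).subgroupOf T = ⊤
            rw [hlast, Subgroup.top_subgroupOf])
        (fun i j hij => Subgroup.subgroupOf_mono T (hmono' hij))
        (fun i => by haveI := hnorm i.succ; infer_instance) (fun i => ?_) θ hθ hgoodθ U' hU'
      haveI := hnorm i.castSucc.succ
      exact pFactor_of_dvd (relIndex_subgroupOf_dvd (hmono' (Fin.castSucc_le_succ i)) T) (hfac' i)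

/-- A union of blocks from a weighted sum vanishing on the singular elements. -/
theorem blockOf_subset_of_weightedSum {G : Type u} [Group G] [Fintype G]
    [Fintype (IrrCharacter G)] (hM : IsPModular p M) (hsolv : IsPSolvable p G)
    (U : Set (IrrCharacter G))
    (hU : ∀ x : G, p ∣ orderOf x → ∑ᶠ χ ∈ U, (χ : G → ℂ) 1 * (χ : G → ℂ) x = 0)
    {χ : IrrCharacter G} (hχ : χ ∈ U) : blockOf M (χ : G → ℂ) ⊆ U := by
  obtain ⟨n, H, h0, h1, hmono, hnorm, hfac⟩ := hsolv
  haveI : (H 0).Normal := hnorm 0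
  haveI : Fintype (H 0) := Fintype.ofFinite _
  haveI : Subsingleton (H 0) := by rw [h0]; infer_instance
  let η : IrrCharacter (H 0) := trivIrr (H 0)
  have hover : ∀ ψ : IrrCharacter G, Over (H 0) (η : H 0 → ℂ) (ψ : G → ℂ) := by
    intro ψ
    have hcard : Nat.card (H 0) = 1 := Nat.card_unique
    rw [Over, show (η : H 0 → ℂ) = fun _ => 1 from rfl]
    simp only [classInner, hcard, Fintype.sum_subsingleton _ (1 : H 0)]
    simpa using IsIrrCharacter.apply_one_ne_zero ψ.2
  have hgood : GoodChar p (η : H 0 → ℂ) := by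
    refine ⟨fun K _ _ => isIrrCharacter_one, fun v _ => ?_⟩
    rw [Subsingleton.elim v 1]
    exact (isCharacter_detChar (irr_isCharacter η)).2
  obtain ⟨c, hc, hsep⟩ := exists_separator hM n G ⟨n, H, h0, h1, hmono, hnorm, hfac⟩ H h1 hmono
    hnorm hfac η (fun g => rfl) hgood U fun x hx => by
      classical
      have hsing : p ∣ orderOf x := by
        by_contra hnd
        exact hx ⟨orderOf x, hnd, by rw [pow_orderOf_eq_one]; exact one_mem _⟩
      refine Eq.trans ?_ (hU x hsing)
      rw [finsum_irr_eq_sum_ite, wsum]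
      refine Finset.sum_congr rfl fun ψ _ => ?_
      simp only [hover ψ, and_true]
  exact blockOf_subset_of_isRCentral
    (isRCentral_blockCoeff_of_sep hM hc fun ψ => hsep ψ (hover ψ)) hχ

end Cfsg.Agent.Lib.Harada
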