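import Cfsg.Agent.Lib.Harada.Component
import Cfsg.Agent.Lib.Characters.ExtensionCoprime
import Cfsg.Agent.Lib.Coprime.SchurZassenhaus
import Mathlib.GroupTheory.Nilpotent

/-!
# Passing a normal `p`-section

A separator for the characters over the extension `η̂` of `η` to `P`, where `P/L` is a `p`-group,
separates all characters over `η`: on the elements regular modulo `L` every such character is a
combination of those over `η̂` with bounded denominators.
-/

set_option autoImplicit false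
set_option linter.unusedSectionVars false
set_option linter.style.haveILetI false

namespace Cfsg.Agent.Lib.Harada

open Cfsg Cfsg.Agent.Lib.Characters Cfsg.Agent.Lib.Blocks MonoidAlgebra
open scoped ComplexConjugate Pointwise

universe u

variable {G : Type u} [Group G] [Fintype G] {p : ℕ} (L P : Subgroup G)

/-- Regular elements in a coset of a normal `p`-section are conjugate modulo `L`. -/
theorem exists_conj_regular [L.Normal] [P.Normal] (hp : p.Prime) (hLP : L ≤ P) {a : ℕ}
    (hidx : L.relIndex P = p ^ a) {u g : G} (hu : u ∈ P) (hg : RegMod p L g)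
    (hug : RegMod p L (u * g)) :
    ∃ v ∈ P, ∃ l ∈ L, u * g = v * g * v⁻¹ * l := by
  haveI := Fact.mk hp
  set q := QuotientGroup.mk' L with hq
  set P' := P.map q with hP'
  haveI : P'.Normal := Subgroup.Normal.map inferInstance q (QuotientGroup.mk'_surjective L)
  have hcardP : Nat.card P' = p ^ a := by
    rw [hP', ← hidx, ← Subgroup.relIndex_bot_left, ← Subgroup.map_bot q,
      Subgroup.relIndex_map_map, QuotientGroup.ker_mk', bot_sup_eq, sup_eq_left.2 hLP]
  have hreg : ∀ {z : G}, RegMod p L z → ¬ p ∣ orderOf (q z) := by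
    rintro z ⟨m, hm, hz⟩ hdvd
    refine hm (hdvd.trans (orderOf_dvd_of_pow_eq_one ?_))
    rw [← map_pow]; exact (QuotientGroup.eq_one_iff _).2 hz
  have hzero : ∀ {z : G} (i : ℤ), RegMod p L z → (q z) ^ i ∈ P' → (q z) ^ i = 1 := by
    intro z i hz hi
    refine orderOf_eq_one_iff.1 (Nat.eq_one_of_dvd_coprimes ?_
      (Subgroup.orderOf_dvd_natCard _ hi) ((orderOf_dvd_of_mem_zpowers ⟨i, rfl⟩)))
    rw [hcardP]
    exact Nat.Coprime.pow_left a (hp.coprime_iff_not_dvd.2 (hreg hz))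
  have hup : q u ∈ P' := ⟨u, hu, rfl⟩
  set x := q g with hx
  set y := q (u * g) with hy
  have hyx : (QuotientGroup.mk' P') y = (QuotientGroup.mk' P') x := by
    rw [hy, map_mul q, map_mul,
      show (QuotientGroup.mk' P') (q u) = 1 from (QuotientGroup.eq_one_iff _).2 hup, one_mul]
  have hord : ∀ {z : G}, RegMod p L z → orderOf ((QuotientGroup.mk' P') (q z)) = orderOf (q z) := by
    intro z hz
    refine Nat.dvd_antisymm (orderOf_map_dvd _ _) (orderOf_dvd_of_pow_eq_one ?_)
    have h1 : (q z) ^ orderOf ((QuotientGroup.mk' P') (q z)) ∈ P' := by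
      rw [← QuotientGroup.eq_one_iff, QuotientGroup.mk_pow]
      exact pow_orderOf_eq_one _
    rw [← zpow_natCast] at h1 ⊢
    exact hzero _ hz h1
  have hcard : Nat.card (Subgroup.zpowers y) = Nat.card (Subgroup.zpowers x) := by
    rw [Nat.card_zpowers, Nat.card_zpowers, hy, ← hord hug, ← hord hg, ← hy, ← hx, hyx]
  obtain ⟨n, hn, hconj⟩ := Coprime.exists_conj_eq_of_le_sup (N := P') (H := Subgroup.zpowers x)
    (K := Subgroup.zpowers y) Subgroup.le_normalizer_of_normal
    (by rw [hcardP, Nat.card_zpowers]; exact Nat.Coprime.pow_left a (hp.coprime_iff_not_dvd.2 (hreg hg)))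
    (Or.inl (by
      haveI : Group.IsNilpotent P' := (IsPGroup.of_card hcardP).isNilpotent
      infer_instance))
    hcard (by
      rw [Subgroup.zpowers_le, hy, map_mul]
      exact mul_mem (Subgroup.mem_sup_left hup)
        (Subgroup.mem_sup_right (Subgroup.mem_zpowers _)))
  have hmem : n * x * n⁻¹ ∈ Subgroup.zpowers y := by
    rw [← hconj]
    exact Subgroup.smul_mem_pointwise_smul x (MulAut.conj n) _ (Subgroup.mem_zpowers x)
  obtain ⟨i, hi⟩ := hmem
  have hn1 : (QuotientGroup.mk' P') n = 1 := (QuotientGroup.eq_one_iff _).2 hn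
  have heq : n * x * n⁻¹ = y := by
    have h1 := congrArg (QuotientGroup.mk' P') hi
    simp only [map_zpow, map_mul, map_inv, hn1, one_mul, inv_one, mul_one, ← hyx] at h1
    have h2 : (y ^ (i - 1) : G ⧸ L) ∈ P' := by
      rw [← QuotientGroup.eq_one_iff, QuotientGroup.mk_zpow, zpow_sub_one]
      show (QuotientGroup.mk' P') y ^ i * ((QuotientGroup.mk' P') y)⁻¹ = 1
      rw [h1, mul_inv_cancel]
    have h3 := hzero (i - 1) hug h2
    rw [← hi]
    show y ^ i = y
    rw [show i = (i - 1) + 1 by ring, zpow_add_one, h3, one_mul]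
  obtain ⟨v, hv, rfl⟩ := hn
  refine ⟨v, hv, (v * g * v⁻¹)⁻¹ * (u * g), ?_, by group⟩
  rw [← QuotientGroup.eq]
  show q (v * g * v⁻¹) = q (u * g)
  rw [map_mul, map_mul, map_inv]
  exact heq

open Classical in
/-- The elements of `P` moving `g` to elements regular modulo `L`. -/
noncomputable def regSet [Fintype P] (p : ℕ) (g : G) : Finset P :=
  Finset.univ.filter fun u => RegMod p L ((u : G) * g)

theorem regSet_translate [Fintype P] {u : P} {g : G} :
    (regSet L P p ((u : G) * g)).card = (regSet L P p g).card := by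
  classical
  refine Finset.card_equiv (Equiv.mulRight u) fun w => ?_
  simp [regSet, mul_assoc]

theorem regSet_conj [L.Normal] [P.Normal] [Fintype P] (g h : G) :
    (regSet L P p (h * g * h⁻¹)).card = (regSet L P p g).card := by
  classical
  refine (Finset.card_equiv (MulAut.conjNormal h : MulAut P).toEquiv fun w => ?_).symm
  simp only [regSet, Finset.mem_filter, Finset.mem_univ, true_and, MulEquiv.toEquiv_eq_coe,
    MulEquiv.coe_toEquiv, MulAut.conjNormal_apply]
  rw [show h * w * h⁻¹ * (h * g * h⁻¹) = h * ((w : G) * g) * h⁻¹ by group, regMod_conj L]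

open Classical in
/-- The weighted regular part of a character. -/
noncomputable def wReg [Fintype P] (p : ℕ) (χ : G → ℂ) (g : G) : ℂ :=
  if RegMod p L g then (Nat.card P : ℂ) / ((regSet L P p g).card : ℂ) * χ g else 0

theorem isClassFunction_wReg [L.Normal] [P.Normal] [Fintype P] {χ : G → ℂ}
    (hχ : IsClassFunction G χ) : IsClassFunction G (wReg L P p χ) := fun g h => by
  simp only [wReg, regSet_conj, hχ g h]
  classical
  exact if_congr (regMod_conj L h) rfl rfl

open Classical in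
/-- **The regular part of a character over `η` as a combination over `η̂`.** -/
theorem wReg_component [L.Normal] [P.Normal] [Fintype L] [Fintype P] (hp : p.Prime) (hLP : L ≤ P)
    {a : ℕ} (hidx : L.relIndex P = p ^ a) {η : IrrCharacter L}
    (hη : ∀ g : G, conjFun L g (η : L → ℂ) = (η : L → ℂ)) {θ : IrrCharacter P}
    (hθ : ∀ g : G, conjFun P g (θ : P → ℂ) = (θ : P → ℂ))
    (hres : ∀ l : L, (θ : P → ℂ) ⟨l, hLP l.2⟩ = (η : L → ℂ) l)
    {χ : G → ℂ} (hχ : IsIrrCharacter G χ) (hover : Over L (η : L → ℂ) χ)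
    {g : G} (hg : RegMod p L g) :
    ∑ u : P, coef P θ u * wReg L P p χ ((u : G) * g) = χ g := by
  set S := regSet L P p g with hS
  have hS1 : (1 : P) ∈ S := by simp [hS, regSet, hg]
  have hS0 : (S.card : ℂ) ≠ 0 := Nat.cast_ne_zero.2 (Finset.card_pos.2 ⟨1, hS1⟩).ne'
  have hP0 : (Nat.card P : ℂ) ≠ 0 := natCard_ne_zero_complex
  -- reduce to the sum over the regular translates
  have hlhs : ∑ u : P, coef P θ u * wReg L P p χ ((u : G) * g) =
      (Nat.card P : ℂ) / (S.card : ℂ) * ∑ u ∈ S, coef P θ u * χ ((u : G) * g) := by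
    rw [hS, regSet, Finset.mul_sum, Finset.sum_filter]
    refine Finset.sum_congr rfl fun u _ => ?_
    simp only [wReg, regSet_translate]
    split_ifs
    · rw [regSet]; ring
    · ring
  suffices h : ∑ u ∈ S, coef P θ u * χ ((u : G) * g) = (S.card : ℂ) / (Nat.card P : ℂ) * χ g by
    rw [hlhs, h]; field_simp
  -- the group generated by `g` and `P`
  set Γ : Subgroup G := Subgroup.zpowers g ⊔ P with hΓ
  haveI : Fintype Γ := Fintype.ofFinite _
  have hPΓ : P ≤ Γ := le_sup_right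
  have hgΓ : g ∈ Γ := Subgroup.mem_sup_left (Subgroup.mem_zpowers g)
  let P₁ : Subgroup Γ := P.subgroupOf Γ
  let L₁ : Subgroup Γ := L.subgroupOf Γ
  haveI : Fintype P₁ := Fintype.ofFinite _
  haveI : Fintype L₁ := Fintype.ofFinite _
  let eP : P₁ ≃* P := Subgroup.subgroupOfEquivOfLe hPΓ
  let eL : L₁ ≃* L := Subgroup.subgroupOfEquivOfLe (hLP.trans hPΓ)
  let θ₁ : IrrCharacter P₁ := ⟨(θ : P → ℂ) ∘ eP, IsIrrCharacter.comp_equiv θ.2 eP⟩
  let η₁ : IrrCharacter L₁ := ⟨(η : L → ℂ) ∘ eL, IsIrrCharacter.comp_equiv η.2 eL⟩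
  have hθ₁ : ∀ x : Γ, conjFun P₁ x (θ₁ : P₁ → ℂ) = (θ₁ : P₁ → ℂ) := fun x =>
    funext fun n => congrFun (hθ (x : G)) (eP n)
  have hcyc : IsCyclic (Γ ⧸ P₁) := by
    refine ⟨⟨((⟨g, hgΓ⟩ : Γ) : Γ ⧸ P₁), fun z => ?_⟩⟩
    obtain ⟨w, rfl⟩ := QuotientGroup.mk_surjective z
    have hw : (w : G) ∈ ((Subgroup.zpowers g : Subgroup G) : Set G) * (P : Set G) := by
      rw [← Subgroup.mul_normal]; exact w.2
    obtain ⟨b, ⟨i, rfl⟩, n, hn, hbn⟩ := Set.mem_mul.1 hw
    refine ⟨i, ?_⟩
    show ((⟨g, hgΓ⟩ : Γ) : Γ ⧸ P₁) ^ i = _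
    rw [← QuotientGroup.mk_zpow, QuotientGroup.eq, Subgroup.mem_subgroupOf, Subgroup.coe_mul,
      Subgroup.coe_inv, SubgroupClass.coe_zpow]
    show (g ^ i)⁻¹ * (w : G) ∈ P
    rw [← hbn, ← mul_assoc, inv_mul_cancel, one_mul]
    exact hn
  obtain ⟨ζ, hζ, hζP⟩ := exists_irr_extension_of_cyclic hcyc θ₁.2
    (fun x n => congrFun (hθ₁ x) n)
  have hζP' : (fun n : P₁ => ζ n) = (θ₁ : P₁ → ℂ) := funext hζP
  have hζL : (fun n : L₁ => ζ n) = (η₁ : L₁ → ℂ) := by
    funext n
    have h1 := hζP ⟨(n : Γ), Subgroup.mem_subgroupOf.2 (hLP (Subgroup.mem_subgroupOf.1 n.2))⟩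
    rw [h1]
    exact hres (eL n)
  have hζL' : IsIrrCharacter L₁ fun n : L₁ => ζ n := hζL ▸ η₁.2
  haveI := Fintype.ofFinite (IrrCharacter Γ)
  -- regularity on `Γ`
  set g₁ : Γ := ⟨g, hgΓ⟩ with hg₁
  have hregiff : ∀ x : Γ, RegMod p L₁ x ↔ RegMod p L (x : G) := fun x => by
    simp only [RegMod, L₁, Subgroup.mem_subgroupOf, SubgroupClass.coe_pow]
  -- the mean of `|ζ|²` over the regular translates
  let G' : Γ → ℂ := fun x => if RegMod p L₁ x then ζ x else 0
  have hG' : IsClassFunction Γ G' := fun x h => by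
    simp only [G', regMod_conj L₁, IsCharacter.conj_apply (IsIrrCharacter.isCharacter hζ)]
  have hζc : IsClassFunction Γ ζ :=
    IsCharacter.isClassFunction (IsIrrCharacter.isCharacter hζ)
  have hcomp : ∀ x : Γ, ∑ n : P₁, coef P₁ θ₁ n * G' ((n : Γ) * x) =
      Characters.avgN P₁ (G' * fun y => conj (ζ y)) x * ζ x := by
    intro x
    rw [sum_coef_mul_classFun P₁ hθ₁ hG']
    have hd := eq_sum_classInner hG'
    have hprod : (G' * fun y => conj (ζ y)) = ∑ φ : IrrCharacter Γ,
        classInner G' (φ : Γ → ℂ) • ((φ : Γ → ℂ) * fun y => conj (ζ y)) := by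
      funext y
      rw [Pi.mul_apply]
      conv_lhs => rw [congrFun hd y]
      simp [Finset.sum_apply, Finset.sum_mul, mul_assoc]
    rw [hprod, avgN_smul_sum, Finset.sum_apply, Finset.sum_mul]
    refine Finset.sum_congr rfl fun φ _ => ?_
    have hgal := gallagher_avg P₁ hζ (hζP' ▸ θ₁.2) φ.2
    rw [Pi.smul_apply, smul_eq_mul, mul_assoc]
    by_cases ho : Over P₁ (θ₁ : P₁ → ℂ) (φ : Γ → ℂ)
    · have h1 := (hgal.1 (by rw [hζP']; exact ho)).2
      rw [if_pos ho, show (φ : Γ → ℂ) x = _ from congrFun h1 x, Pi.mul_apply]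
    · have h1 : classInner (fun n : P₁ => (φ : Γ → ℂ) n) (θ₁ : P₁ → ℂ) = 0 := by
        simpa [Over] using ho
      rw [if_neg ho, hgal.2 (by rw [hζP']; exact h1)]
      simp
  have hsq : ∀ x : Γ, Characters.avgN L₁ (ζ * fun y => conj (ζ y)) x = 1 := fun x =>
    congrFun (avgN_mul_conj_self L₁ hζ hζL') x
  set S₁ : Finset P₁ := Finset.univ.filter fun n => RegMod p L₁ ((n : Γ) * g₁) with hS₁
  have hScard : S₁.card = S.card := by
    refine Finset.card_equiv eP.toEquiv fun n => ?_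
    simp only [hS₁, hS, regSet, Finset.mem_filter, Finset.mem_univ, true_and, hregiff]
    rfl
  have hnorm : Characters.avgN P₁ (G' * fun y => conj (ζ y)) g₁ =
      (S.card : ℂ) / (Nat.card P : ℂ) := by
    rw [Characters.avgN, Nat.card_congr eP.toEquiv, mul_comm, ← div_eq_mul_inv]
    congr 1
    have h1 : ∑ n : P₁, (G' * fun y => conj (ζ y)) ((n : Γ) * g₁) =
        ∑ n ∈ S₁, ζ ((n : Γ) * g₁) * conj (ζ ((n : Γ) * g₁)) := by
      rw [hS₁, Finset.sum_filter]
      refine Finset.sum_congr rfl fun n _ => ?_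
      simp only [Pi.mul_apply, G']
      split_ifs <;> simp
    rw [h1, ← hScard]
    set D : ℂ := ∑ n ∈ S₁, ζ ((n : Γ) * g₁) * conj (ζ ((n : Γ) * g₁)) with hD
    have hshift : ∀ l : L₁, ∑ n ∈ S₁, ζ ((l : Γ) * ((n : Γ) * g₁)) *
        conj (ζ ((l : Γ) * ((n : Γ) * g₁))) = D := by
      intro l
      have hlP : (l : Γ) ∈ P₁ := Subgroup.mem_subgroupOf.2 (hLP (Subgroup.mem_subgroupOf.1 l.2))
      refine Finset.sum_equiv (Equiv.mulLeft (⟨(l : Γ), hlP⟩ : P₁)) (fun n => ?_) fun n _ => ?_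
      · simp only [hS₁, Finset.mem_filter, Finset.mem_univ, true_and, Equiv.coe_mulLeft,
          Subgroup.coe_mul, mul_assoc]
        exact (regMod_mul_self L₁ l.2).symm
      · simp [mul_assoc]
    have hL0 : (Nat.card L₁ : ℂ) ≠ 0 := natCard_ne_zero_complex
    calc D = (Nat.card L₁ : ℂ)⁻¹ * ∑ _l : L₁, D := by
          rw [Finset.sum_const, Finset.card_univ, nsmul_eq_mul, ← Nat.card_eq_fintype_card,
            ← mul_assoc, inv_mul_cancel₀ hL0, one_mul]
      _ = ∑ n ∈ S₁, Characters.avgN L₁ (ζ * fun y => conj (ζ y)) ((n : Γ) * g₁) := by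
          rw [Finset.sum_congr rfl fun l _ => (hshift l).symm, Finset.sum_comm, Finset.mul_sum]
          rfl
      _ = (S₁.card : ℂ) := by simp [hsq]
  have hζsum : ∑ n ∈ S₁, coef P₁ θ₁ n * ζ ((n : Γ) * g₁) =
      (S.card : ℂ) / (Nat.card P : ℂ) * ζ g₁ := by
    rw [← hnorm, ← hcomp, hS₁, Finset.sum_filter]
    refine Finset.sum_congr rfl fun n _ => ?_
    simp only [G']
    split_ifs <;> simp
  -- each constituent on `Γ`
  have hchar := IsCharacter.restrict (IsIrrCharacter.isCharacter hχ) Γ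
  obtain ⟨m, hm, hm'⟩ := IsCharacter.exists_nat_decomp hchar
  have hη₁ : (fun n : L₁ => χ ((n : Γ) : G)) =
      classInner (fun n : L => χ n) (η : L → ℂ) • (η₁ : L₁ → ℂ) :=
    funext fun n => congrFun (Over.restrict L hη hχ hover) (eL n)
  have hphi : ∀ φ : IrrCharacter Γ, m φ ≠ 0 →
      ∑ n ∈ S₁, coef P₁ θ₁ n * (φ : Γ → ℂ) ((n : Γ) * g₁) =
        (S.card : ℂ) / (Nat.card P : ℂ) * (φ : Γ → ℂ) g₁ := by
    intro φ hφ
    have hoφ : classInner (fun n : L₁ => (φ : Γ → ℂ) n) (fun n : L₁ => ζ n) ≠ 0 := by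
      rw [hζL]
      intro h0
      obtain ⟨μ, hμ⟩ := IsCharacter.exists_constituent
        (IsCharacter.restrict (irr_isCharacter φ) L₁)
        (fun h => IsIrrCharacter.apply_one_ne_zero φ.2 (congrFun h (1 : L₁)))
      have hne : μ ≠ η₁ := fun h => hμ (by rw [h]; exact h0)
      have hsum : classInner (fun n : L₁ => χ ((n : Γ) : G)) (μ : L₁ → ℂ) =
          ∑ ψ : IrrCharacter Γ,
            (m ψ : ℂ) * classInner (fun n : L₁ => (ψ : Γ → ℂ) n) (μ : L₁ → ℂ) := by
        have : (fun n : L₁ => χ ((n : Γ) : G)) =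
            ∑ ψ : IrrCharacter Γ, (m ψ : ℂ) • fun n : L₁ => (ψ : Γ → ℂ) n := by
          funext n
          have := congrFun hm (n : Γ)
          simpa using this
        rw [this, classInner_sum_left]
        simp only [classInner_smul_left]
      rw [hη₁, classInner_smul_left, IsIrrCharacter.classInner_ne η₁.2 μ.2
        (fun h => hne (Subtype.ext h.symm)), mul_zero] at hsum
      choose f hf using fun ψ : IrrCharacter Γ =>
        IsCharacter.exists_classInner_nat (IsCharacter.restrict (irr_isCharacter ψ) L₁)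
          (irr_isCharacter μ)
      have hsum' : ((∑ ψ, m ψ * f ψ : ℕ) : ℂ) = 0 := by
        push_cast
        rw [hsum]
        simp only [hf]
      have h1 : m φ * f φ = 0 :=
        (Finset.sum_eq_zero_iff.1 (by exact_mod_cast hsum')) φ (Finset.mem_univ φ)
      refine hμ ?_
      rw [hf φ, (Nat.mul_eq_zero.1 h1).resolve_left hφ, Nat.cast_zero]
    obtain ⟨hβ, hprod⟩ := (gallagher_avg L₁ hζ hζL' φ.2).1 hoφ
    set β := Characters.avgN L₁ ((φ : Γ → ℂ) * fun y => conj (ζ y)) with hβd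
    have hconst : ∀ n ∈ S₁, β ((n : Γ) * g₁) = β g₁ := by
      intro n hn
      obtain ⟨v, hv, l, hl, hvl⟩ := exists_conj_regular L P hp hLP hidx
        (Subgroup.mem_subgroupOf.1 n.2) hg ((hregiff _).1 (Finset.mem_filter.1 hn).2)
      let vΓ : Γ := ⟨v, hPΓ hv⟩
      let lΓ : Γ := ⟨l, hPΓ (hLP hl)⟩
      have he : (n : Γ) * g₁ = vΓ * g₁ * vΓ⁻¹ * lΓ := Subtype.ext hvl
      have hcl := IsCharacter.isClassFunction (IsIrrCharacter.isCharacter hβ)
      rw [he, classFunction_mul_comm hcl, hβd,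
        avgN_apply_mul L₁ _ (⟨lΓ, Subgroup.mem_subgroupOf.2 hl⟩ : L₁), ← hβd, hcl]
    calc ∑ n ∈ S₁, coef P₁ θ₁ n * (φ : Γ → ℂ) ((n : Γ) * g₁)
        = ∑ n ∈ S₁, β g₁ * (coef P₁ θ₁ n * ζ ((n : Γ) * g₁)) := by
          refine Finset.sum_congr rfl fun n hn => ?_
          rw [congrFun hprod, Pi.mul_apply, hconst n hn]; ring
      _ = _ := by
          rw [← Finset.mul_sum, hζsum, congrFun hprod g₁, Pi.mul_apply]; ring
  have hχΓ : ∀ x : Γ, χ (x : G) = ∑ φ : IrrCharacter Γ, (m φ : ℂ) * (φ : Γ → ℂ) x := fun x => by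
    have := congrFun hm x
    simpa using this
  have hcoef : ∀ n : P₁, coef P₁ θ₁ n = coef P θ (eP n) := fun n => by
    have h := Nat.card_congr eP.toEquiv
    simp only [coef, θ₁, h]
    simp [map_one, map_inv]
  have hstep : ∑ u ∈ S, coef P θ u * χ ((u : G) * g) =
      ∑ n ∈ S₁, coef P₁ θ₁ n * χ (((n : Γ) * g₁ : Γ) : G) := by
    refine (Finset.sum_equiv eP.toEquiv (fun n => ?_) fun n _ => ?_).symm
    · simp only [hS₁, hS, regSet, Finset.mem_filter, Finset.mem_univ, true_and, hregiff]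
      rfl
    · rw [hcoef]; rfl
  rw [hstep]
  calc ∑ n ∈ S₁, coef P₁ θ₁ n * χ (((n : Γ) * g₁ : Γ) : G)
      = ∑ φ : IrrCharacter Γ, (m φ : ℂ) *
          ∑ n ∈ S₁, coef P₁ θ₁ n * (φ : Γ → ℂ) ((n : Γ) * g₁) := by
        simp only [hχΓ, Finset.mul_sum]
        rw [Finset.sum_comm]
        exact Finset.sum_congr rfl fun φ _ => Finset.sum_congr rfl fun n _ => by ring
    _ = ∑ φ : IrrCharacter Γ, (m φ : ℂ) * ((S.card : ℂ) / (Nat.card P : ℂ) * (φ : Γ → ℂ) g₁) := by
        refine Finset.sum_congr rfl fun φ _ => ?_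
        by_cases h0 : m φ = 0
        · simp [h0]
        · rw [hphi φ h0]
    _ = _ := by
        rw [show χ g = χ (g₁ : G) from rfl, hχΓ g₁, Finset.mul_sum]
        exact Finset.sum_congr rfl fun φ _ => by ring

variable {M : Ideal AlgInt} [M.IsPrime]

open Classical in
/-- The singular part of the weighted sum vanishes over the next section. -/
theorem wsum_eq_zero_step [L.Normal] [P.Normal] [Fintype L] [Fintype P]
    [Fintype (IrrCharacter G)] (hLP : L ≤ P) {η : IrrCharacter L} {θ : IrrCharacter P}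
    (hθ : ∀ g : G, conjFun P g (θ : P → ℂ) = (θ : P → ℂ))
    (hres : ∀ l : L, (θ : P → ℂ) ⟨l, hLP l.2⟩ = (η : L → ℂ) l) {U : Set (IrrCharacter G)}
    (hU : ∀ x : G, ¬ RegMod p L x → wsum L (η : L → ℂ) U x = 0) {x : G}
    (hx : ¬ RegMod p P x) : wsum P (θ : P → ℂ) U x = 0 := by
  have hoo : ∀ χ : IrrCharacter G,
      Over P (θ : P → ℂ) (χ : G → ℂ) → Over L (η : L → ℂ) (χ : G → ℂ) := by
    intro χ h
    have h1 := Over.restrict P hθ χ.2 h
    have h2 : (fun l : L => (χ : G → ℂ) l) =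
        classInner (fun n : P => (χ : G → ℂ) n) (θ : P → ℂ) • (η : L → ℂ) := by
      funext l
      rw [Pi.smul_apply, ← hres l]
      exact congrFun h1 ⟨l, hLP l.2⟩
    rw [Over, h2, classInner_smul_left, IsIrrCharacter.classInner_self η.2, mul_one]
    exact h
  have h0 : ∀ u : P, wsum L (η : L → ℂ) U ((u : G) * x) = 0 := fun u =>
    hU _ fun h => hx ((regMod_mul_mem u.2).1 (regMod_mono hLP h))
  have h1 : ∑ u : P, coef P θ u * wsum L (η : L → ℂ) U ((u : G) * x) = 0 :=
    Finset.sum_eq_zero fun u _ => by rw [h0, mul_zero]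
  rw [← h1]
  simp only [wsum, Finset.mul_sum]
  rw [Finset.sum_comm]
  refine Finset.sum_congr rfl fun χ _ => ?_
  by_cases hc : χ ∈ U ∧ Over L (η : L → ℂ) (χ : G → ℂ)
  · have h2 : ∀ u : P, coef P θ u * ((χ : G → ℂ) 1 * (χ : G → ℂ) ((u : G) * x)) =
        (χ : G → ℂ) 1 * (coef P θ u * (χ : G → ℂ) ((u : G) * x)) := fun u => by ring
    simp only [if_pos hc, h2]
    rw [← Finset.mul_sum, sum_coef_mul_translate P hθ χ.2]
    split_ifs with h3 h4 h4
    · rfl
    · exact absurd h3.2 h4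
    · exact absurd ⟨hc.1, h4⟩ h3
    · ring
  · simp only [if_neg hc, mul_zero, Finset.sum_const_zero]
    rw [if_neg fun h => hc ⟨h.1, hoo χ h.2⟩]

open Classical in
/-- **The separator step over a normal `p`-section.** -/
theorem sep_step [L.Normal] [P.Normal] [Fintype L] [Fintype P] [Fintype (IrrCharacter G)]
    (hM : IsPModular p M) (hLP : L ≤ P) {a : ℕ} (hidx : L.relIndex P = p ^ a)
    {η : IrrCharacter L} (hη : ∀ g : G, conjFun L g (η : L → ℂ) = (η : L → ℂ))
    {θ : IrrCharacter P} (hθ : ∀ g : G, conjFun P g (θ : P → ℂ) = (θ : P → ℂ))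
    (hres : ∀ l : L, (θ : P → ℂ) ⟨l, hLP l.2⟩ = (η : L → ℂ) l) {U : Set (IrrCharacter G)}
    (hU : ∀ x : G, ¬ RegMod p L x → wsum L (η : L → ℂ) U x = 0)
    {c : MonoidAlgebra ℂ G} (hc : IntCoef M c)
    (hsep : ∀ ψ : IrrCharacter G, Over P (θ : P → ℂ) (ψ : G → ℂ) →
      Sep p M (ψ : G → ℂ) c (ψ ∈ U))
    (χ : IrrCharacter G) (hχ : Over L (η : L → ℂ) (χ : G → ℂ)) :
    Sep p M (χ : G → ℂ) c (χ ∈ U) := by
  set F := wReg L P p (χ : G → ℂ) with hF
  have hFc : IsClassFunction G F := isClassFunction_wReg L P (irr_isClassFunction χ)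
  set T := Finset.univ.filter fun ψ : IrrCharacter G => Over P (θ : P → ℂ) (ψ : G → ℂ) with hT
  set q : IrrCharacter G → ℂ := fun ψ => classInner F (ψ : G → ℂ) with hq
  have hexp : ∀ g, RegMod p L g → (χ : G → ℂ) g = ∑ ψ ∈ T, q ψ * (ψ : G → ℂ) g := fun g hg => by
    rw [← wReg_component L P hM.1 hLP hidx hη hθ hres χ.2 hχ hg,
      sum_coef_mul_classFun P hθ hFc, hT, Finset.sum_filter]
  -- bounded denominators
  set D := Nat.card G * (Nat.card P).factorial with hD
  have hqD : ∀ ψ, MemLocalRing M ((D : ℂ) * q ψ) := by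
    intro ψ
    simp only [hq, classInner, hD, Nat.cast_mul]
    rw [show ∀ s : ℂ, (Nat.card G : ℂ) * ((Nat.card P).factorial : ℂ) *
        ((Nat.card G : ℂ)⁻¹ * s) = ((Nat.card P).factorial : ℂ) * s from fun s => by
      rw [mul_comm (Nat.card G : ℂ), mul_assoc, ← mul_assoc (Nat.card G : ℂ),
        mul_inv_cancel₀ natCard_ne_zero_complex, one_mul], Finset.mul_sum]
    refine memLocalRing_sum _ fun g _ => ?_
    rw [hF, wReg]
    split_ifs with hg
    · have hpos : 0 < (regSet L P p g).card :=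
        Finset.card_pos.2 ⟨1, by simp [regSet, hg]⟩
      have hle : (regSet L P p g).card ≤ Nat.card P := by
        rw [Nat.card_eq_fintype_card]; exact Finset.card_le_univ _
      obtain ⟨r, hr⟩ := Nat.dvd_factorial hpos hle
      have hne : ((regSet L P p g).card : ℂ) ≠ 0 := Nat.cast_ne_zero.2 hpos.ne'
      rw [hr]
      push_cast
      rw [show ((regSet L P p g).card : ℂ) * (r : ℂ) * ((Nat.card P : ℂ) /
          ((regSet L P p g).card : ℂ) * (χ : G → ℂ) g * conj ((ψ : G → ℂ) g)) =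
          (r : ℂ) * (Nat.card P : ℂ) * ((χ : G → ℂ) g * conj ((ψ : G → ℂ) g)) by field_simp]
      exact memLocalRing_mul (memLocalRing_mul (memLocalRing_natCast _) (memLocalRing_natCast _))
        (memLocalRing_mul (memLocalRing_of_isIntegral' (isIntegral_char χ g))
          (memLocalRing_of_isIntegral' (isIntegral_conj_char ψ g)))
    · rw [zero_mul, mul_zero]; exact memLocalRing_zero
  have hD0 : D ≠ 0 := Nat.mul_ne_zero Nat.card_pos.ne' (Nat.factorial_ne_zero _)
  -- limits transfer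
  have htrans : ∀ x, IntCoef M x → ∀ v : IrrCharacter G → ℂ,
      (∀ ψ ∈ T, LimPow p M (ψ : G → ℂ) x (v ψ)) →
      LimPow p M (χ : G → ℂ) x (∑ ψ ∈ T, q ψ * v ψ) := by
    intro x hx v hv j hj
    let sing : IrrCharacter G → G → ℂ :=
      fun ψ g => if RegMod p L g then 0 else (ψ : G → ℂ) g
    have hs : ∀ ψ, PTends p M (fun k => grpTr (sing ψ) (x ^ (j * p ^ k))) 0 := fun ψ =>
      ptends_grpTr_singular hM L hx
        (fun g h => if_congr (regMod_conj L h) rfl (irr_isClassFunction ψ g h))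
        (fun g => by
          show MemLocalRing M (if RegMod p L g then (0:ℂ) else (ψ : G → ℂ) g)
          split_ifs
          exacts [memLocalRing_zero, memLocalRing_of_isIntegral' (isIntegral_char ψ g)])
        (fun g hg => if_pos hg) j
    have hid : ∀ y : MonoidAlgebra ℂ G, (∑ ψ ∈ T,
        q ψ * (grpTr (ψ : G → ℂ) y - grpTr (sing ψ) y)) + grpTr (sing χ) y =
        grpTr (χ : G → ℂ) y := by
      intro y
      simp only [grpTr, ← Finset.sum_sub_distrib, Finset.mul_sum]
      rw [Finset.sum_comm, ← Finset.sum_add_distrib]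
      refine Finset.sum_congr rfl fun g _ => ?_
      simp only [sing]
      split_ifs with hg
      · rw [hexp g hg, Finset.mul_sum, mul_zero, add_zero]
        exact Finset.sum_congr rfl fun ψ _ => by ring
      · simp
    have h1 := ((PTends.sum T fun ψ hψ =>
      ((hv ψ hψ j hj).sub hM (hs ψ)).const_mul hM (c := q ψ) hD0 (hqD ψ))).add (hs χ)
    simp only [sub_zero, add_zero] at h1
    exact h1.congr (K₀ := 0) fun k _ => hid _
  -- the values
  have hone : ∑ ψ ∈ T, q ψ * (ψ : G → ℂ) 1 = (χ : G → ℂ) 1 :=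
    (hexp 1 (regMod_one p hM.1 L)).symm
  have hval : ∑ ψ ∈ T, q ψ * (if ψ ∈ U then (ψ : G → ℂ) 1 else 0) =
      if χ ∈ U then (χ : G → ℂ) 1 else 0 := by
    set f := wsum L (η : L → ℂ) U with hf
    have hin : ∀ ψ : IrrCharacter G, ∑ g, (ψ : G → ℂ) g * conj (f g) = (Nat.card G : ℂ) *
        if ψ ∈ U ∧ Over L (η : L → ℂ) (ψ : G → ℂ) then (ψ : G → ℂ) 1 else 0 := by
      intro ψ
      have hcon : ∀ χ' : IrrCharacter G, conj ((χ' : G → ℂ) 1) = (χ' : G → ℂ) 1 := fun χ' => by
        rw [← IsCharacter.apply_inv (irr_isCharacter χ'), inv_one]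
      calc ∑ g, (ψ : G → ℂ) g * conj (f g)
          = ∑ χ' : IrrCharacter G, (if χ' ∈ U ∧ Over L (η : L → ℂ) (χ' : G → ℂ)
              then (χ' : G → ℂ) 1 else 0) *
                ((Nat.card G : ℂ) * classInner (ψ : G → ℂ) (χ' : G → ℂ)) := by
            simp only [hf, wsum, map_sum, Finset.mul_sum, classInner, ← mul_assoc]
            rw [Finset.sum_comm]
            refine Finset.sum_congr rfl fun χ' _ => Finset.sum_congr rfl fun g _ => ?_
            split_ifs
            · rw [map_mul, hcon]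
              field_simp [natCard_ne_zero_complex (G := G)]
            · simp
        _ = _ := by
            simp only [classInner_irr, mul_ite, mul_one, mul_zero, Finset.sum_ite_eq,
              Finset.mem_univ, if_true]
            split_ifs <;> ring
    have hTover : ∀ ψ ∈ T, Over L (η : L → ℂ) (ψ : G → ℂ) := by
      intro ψ hψ
      have h1 := Over.restrict P hθ ψ.2 (Finset.mem_filter.1 hψ).2
      have h2 : (fun l : L => (ψ : G → ℂ) l) =
          classInner (fun n : P => (ψ : G → ℂ) n) (θ : P → ℂ) • (η : L → ℂ) := by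
        funext l
        rw [Pi.smul_apply, ← hres l]
        exact congrFun h1 ⟨l, hLP l.2⟩
      rw [Over, h2, classInner_smul_left, IsIrrCharacter.classInner_self η.2, mul_one]
      exact (Finset.mem_filter.1 hψ).2
    have key : ∑ g, (χ : G → ℂ) g * conj (f g) =
        ∑ ψ ∈ T, q ψ * ∑ g, (ψ : G → ℂ) g * conj (f g) := by
      simp only [Finset.mul_sum]
      rw [Finset.sum_comm]
      refine Finset.sum_congr rfl fun g _ => ?_
      by_cases hg : RegMod p L g
      · rw [hexp g hg, Finset.sum_mul]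
        exact Finset.sum_congr rfl fun ψ _ => mul_assoc _ _ _
      · rw [hU g hg]; simp
    rw [hin χ, Finset.sum_congr rfl fun ψ hψ => by
      rw [hin ψ, if_congr (and_iff_left (hTover ψ hψ)) rfl rfl],
      if_congr (and_iff_left hχ) rfl rfl] at key
    refine mul_left_cancel₀ (natCard_ne_zero_complex (G := G)) ?_
    rw [Finset.mul_sum, key]
    exact Finset.sum_congr rfl fun ψ _ => by ring
  have hval' : ∑ ψ ∈ T, q ψ * (if ψ ∈ U then 0 else (ψ : G → ℂ) 1) =
      if χ ∈ U then 0 else (χ : G → ℂ) 1 := by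
    have h : ∀ (P' : Prop) [Decidable P'] (z : ℂ),
        (if P' then 0 else z) = z - if P' then z else 0 := fun P' _ z => by split_ifs <;> ring
    simp only [h, mul_sub, Finset.sum_sub_distrib, hone, hval]
  refine ⟨?_, ?_⟩
  · rw [← hval]
    exact htrans c hc _ fun ψ hψ => (hsep ψ (Finset.mem_filter.1 hψ).2).1
  · rw [← hval']
    exact htrans _ (intCoef_sub intCoef_one hc) _ fun ψ hψ =>
      (hsep ψ (Finset.mem_filter.1 hψ).2).2

end Cfsg.Agent.Lib.Harada
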