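import Cfsg.Agent.Lib.Blocks.Osima
import Mathlib.Algebra.MonoidAlgebra.Basic
import Mathlib.LinearAlgebra.Trace

/-!
# Trace forms on the group algebra

`grpTr χ x` is the value of `χ` extended linearly to the group algebra.
-/

set_option autoImplicit false
set_option linter.unusedSectionVars false
set_option linter.style.haveILetI false

namespace Cfsg.Agent.Lib.Harada

open Cfsg Cfsg.Agent.Lib.Characters Cfsg.Agent.Lib.Blocks MonoidAlgebra
open scoped ComplexConjugate

universe u

variable {G : Type u} [Group G] [Fintype G]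

/-- The linear extension of `χ` to the group algebra. -/
noncomputable def grpTr (χ : G → ℂ) (x : MonoidAlgebra ℂ G) : ℂ := ∑ g, x.coeff g * χ g

theorem grpTr_add (χ : G → ℂ) (x y : MonoidAlgebra ℂ G) :
    grpTr χ (x + y) = grpTr χ x + grpTr χ y := by
  simp [grpTr, coeff_add, add_mul, Finset.sum_add_distrib]

theorem grpTr_sub (χ : G → ℂ) (x y : MonoidAlgebra ℂ G) :
    grpTr χ (x - y) = grpTr χ x - grpTr χ y := by
  simp [grpTr, coeff_sub, sub_mul, Finset.sum_sub_distrib]

theorem grpTr_zero (χ : G → ℂ) : grpTr χ (0 : MonoidAlgebra ℂ G) = 0 := by simp [grpTr]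

theorem grpTr_smul (χ : G → ℂ) (c : ℂ) (x : MonoidAlgebra ℂ G) :
    grpTr χ (c • x) = c * grpTr χ x := by
  simp [grpTr, coeff_smul, Finset.mul_sum, mul_assoc]

theorem grpTr_sum (χ : G → ℂ) {ι : Type*} (s : Finset ι) (x : ι → MonoidAlgebra ℂ G) :
    grpTr χ (∑ i ∈ s, x i) = ∑ i ∈ s, grpTr χ (x i) := by
  classical
  induction s using Finset.induction with
  | empty => simp [grpTr_zero]
  | insert i s hi ih => rw [Finset.sum_insert hi, Finset.sum_insert hi, grpTr_add, ih]

theorem grpTr_single (χ : G → ℂ) (g : G) (a : ℂ) : grpTr χ (single g a) = a * χ g := by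
  classical
  simp [grpTr, coeff_single, Finsupp.single_apply, ite_mul]

theorem grpTr_one (χ : G → ℂ) : grpTr χ (1 : MonoidAlgebra ℂ G) = χ 1 := by
  rw [one_def, grpTr_single, one_mul]

theorem sum_single_coeff (x : MonoidAlgebra ℂ G) : ∑ g, single g (x.coeff g) = x := by
  classical
  apply coeff_injective
  ext h
  simp [coeff_sum, coeff_single, Finsupp.single_apply]

theorem grpTr_mul (χ : G → ℂ) (x y : MonoidAlgebra ℂ G) :
    grpTr χ (x * y) = ∑ a, ∑ b, x.coeff a * y.coeff b * χ (a * b) := by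
  conv_lhs => rw [← sum_single_coeff x, ← sum_single_coeff y]
  simp only [Finset.sum_mul, Finset.mul_sum, grpTr_sum, single_mul_single, grpTr_single]
  rw [Finset.sum_comm]

theorem grpTr_mul_comm {χ : G → ℂ} (hχ : IsClassFunction G χ) (x y : MonoidAlgebra ℂ G) :
    grpTr χ (x * y) = grpTr χ (y * x) := by
  rw [grpTr_mul, grpTr_mul, Finset.sum_comm]
  refine Finset.sum_congr rfl fun a _ => Finset.sum_congr rfl fun b _ => ?_
  rw [classFunction_mul_comm hχ b a]; ring

/-! ### The kernel of a trace form -/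

/-- `x` is annihilated by the trace form of `χ`. -/
def AnnOn (χ : G → ℂ) (x : MonoidAlgebra ℂ G) : Prop := ∀ y, grpTr χ (x * y) = 0

/-- Congruence modulo the annihilator of the trace form of `χ`. -/
def CongOn (χ : G → ℂ) (x y : MonoidAlgebra ℂ G) : Prop := AnnOn χ (x - y)

theorem CongOn.refl (χ : G → ℂ) (x : MonoidAlgebra ℂ G) : CongOn χ x x := fun y => by
  rw [sub_self, zero_mul, grpTr_zero]

theorem CongOn.trans {χ : G → ℂ} {x y z : MonoidAlgebra ℂ G} (h : CongOn χ x y)
    (h' : CongOn χ y z) : CongOn χ x z := fun w => by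
  rw [show x - z = (x - y) + (y - z) by abel, add_mul, grpTr_add, h w, h' w, add_zero]

theorem CongOn.symm {χ : G → ℂ} {x y : MonoidAlgebra ℂ G} (h : CongOn χ x y) :
    CongOn χ y x := fun w => by
  rw [show y - x = 0 - (x - y) by abel, sub_mul, grpTr_sub, zero_mul, grpTr_zero, h w, sub_zero]

theorem CongOn.tr_eq {χ : G → ℂ} {x y : MonoidAlgebra ℂ G} (h : CongOn χ x y) :
    grpTr χ x = grpTr χ y := by
  have := h 1
  rwa [mul_one, grpTr_sub, sub_eq_zero] at this

theorem CongOn.add {χ : G → ℂ} {x x' y y' : MonoidAlgebra ℂ G} (h : CongOn χ x x')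
    (h' : CongOn χ y y') : CongOn χ (x + y) (x' + y') := fun w => by
  rw [show x + y - (x' + y') = (x - x') + (y - y') by abel, add_mul, grpTr_add, h w, h' w,
    add_zero]

theorem CongOn.sub {χ : G → ℂ} {x x' y y' : MonoidAlgebra ℂ G} (h : CongOn χ x x')
    (h' : CongOn χ y y') : CongOn χ (x - y) (x' - y') := fun w => by
  rw [show x - y - (x' - y') = (x - x') - (y - y') by abel, sub_mul, grpTr_sub, h w, h' w,
    sub_zero]

theorem CongOn.sum {χ : G → ℂ} {ι : Type*} (s : Finset ι) {x y : ι → MonoidAlgebra ℂ G}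
    (h : ∀ i ∈ s, CongOn χ (x i) (y i)) : CongOn χ (∑ i ∈ s, x i) (∑ i ∈ s, y i) := fun w => by
  rw [← Finset.sum_sub_distrib, Finset.sum_mul, grpTr_sum]
  exact Finset.sum_eq_zero fun i hi => h i hi w

theorem CongOn.mul {χ : G → ℂ} (hχ : IsClassFunction G χ) {x x' y y' : MonoidAlgebra ℂ G}
    (h : CongOn χ x x') (h' : CongOn χ y y') : CongOn χ (x * y) (x' * y') := fun w => by
  rw [show (x * y - x' * y') * w = (x - x') * (y * w) + x' * ((y - y') * w) by noncomm_ring,
    grpTr_add, h, grpTr_mul_comm hχ x', mul_assoc, h', add_zero]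

theorem CongOn.pow {χ : G → ℂ} (hχ : IsClassFunction G χ) {x x' : MonoidAlgebra ℂ G}
    (h : CongOn χ x x') : ∀ n : ℕ, CongOn χ (x ^ n) (x' ^ n)
  | 0 => by rw [pow_zero, pow_zero]; exact CongOn.refl χ 1
  | n + 1 => by rw [pow_succ, pow_succ]; exact (CongOn.pow hχ h n).mul hχ h

/-- An idempotent of trace zero is annihilated. -/
theorem annOn_of_idempotent {χ : G → ℂ} (hχ : IsCharacter G χ) {x : MonoidAlgebra ℂ G}
    (hx : x * x = x) (htr : grpTr χ x = 0) : AnnOn χ x := by
  obtain ⟨n, ρ, rfl⟩ := hχ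
  let R := MonoidAlgebra.lift ℂ (Module.End ℂ (Fin n → ℂ)) G ρ
  have hR : ∀ z, LinearMap.trace ℂ _ (R z) = grpTr ρ.character z := fun z => by
    conv_lhs => rw [← sum_single_coeff z]
    rw [map_sum, map_sum, grpTr]
    refine Finset.sum_congr rfl fun g _ => ?_
    rw [lift_single, map_smul, smul_eq_mul]
    rfl
  have h0 : R x = 0 := by
    refine (LinearMap.IsIdempotentElem.trace_eq_zero_iff ?_).1 ((hR x).trans htr)
    show R x * R x = R x
    rw [← map_mul, hx]
  intro y
  rw [← hR, map_mul, h0, zero_mul, map_zero]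

/-- Fourier inversion in the group algebra. -/
theorem coeff_eq_sum_grpTr [Fintype (IrrCharacter G)] (x : MonoidAlgebra ℂ G) (g : G) :
    x.coeff g = (Nat.card G : ℂ)⁻¹ *
      ∑ χ : IrrCharacter G, (χ : G → ℂ) 1 * grpTr (χ : G → ℂ) (x * single g⁻¹ 1) := by
  classical
  have hreg : ∀ y : G, (deltaOne : G → ℂ) y = (Nat.card G : ℂ)⁻¹ *
      ∑ χ : IrrCharacter G, (χ : G → ℂ) 1 * (χ : G → ℂ) y := by
    intro y
    have h1 : (deltaOne : G → ℂ) y = deltaOne y⁻¹ := by
      simp [deltaOne_apply, inv_eq_one]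
    rw [h1, eq_sum_omega isClassFunction_deltaOne y⁻¹]
    congr 1
    refine Finset.sum_congr rfl fun χ _ => ?_
    rw [omega_deltaOne χ.2, one_mul, IsCharacter.apply_inv (irr_isCharacter χ), Complex.conj_conj]
  have h2 : ∀ χ : G → ℂ, grpTr χ (x * single g⁻¹ 1) = ∑ a, x.coeff a * χ (a * g⁻¹) := by
    intro χ
    conv_lhs => rw [← sum_single_coeff x]
    simp only [Finset.sum_mul, grpTr_sum, single_mul_single, grpTr_single, mul_one]
  calc x.coeff g = ∑ a, x.coeff a * deltaOne (a * g⁻¹) := by
        simp [deltaOne_apply, mul_inv_eq_one]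
    _ = _ := by
        simp only [h2, hreg, Finset.mul_sum]
        rw [Finset.sum_comm]
        exact Finset.sum_congr rfl fun χ _ => Finset.sum_congr rfl fun a _ => by ring

/-! ### Elements supported on a subgroup -/

/-- The element of the group algebra with coefficients `F` on `H`. -/
noncomputable def el (H : Subgroup G) [Fintype H] (F : H → ℂ) : MonoidAlgebra ℂ G :=
  ∑ h : H, single (h : G) (F h)

variable (H : Subgroup G) [Fintype H]

theorem el_add (F F' : H → ℂ) : el H (F + F') = el H F + el H F' := by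
  simp [el, single_add, Finset.sum_add_distrib]

theorem el_zero : el H (0 : H → ℂ) = 0 := by simp [el]

theorem el_sum {ι : Type*} (s : Finset ι) (F : ι → H → ℂ) :
    el H (∑ i ∈ s, F i) = ∑ i ∈ s, el H (F i) := by
  classical
  induction s using Finset.induction with
  | empty => simp [el_zero]
  | insert i s hi ih => rw [Finset.sum_insert hi, Finset.sum_insert hi, el_add, ih]

theorem el_deltaOne : el H (deltaOne : H → ℂ) = 1 := by
  classical
  rw [el, one_def, Finset.sum_eq_single (1 : H) (fun b _ hb => by simp [deltaOne_apply, hb])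
    (fun h => absurd (Finset.mem_univ _) h)]
  simp [deltaOne_apply]

theorem el_mul (F F' : H → ℂ) : el H F * el H F' = el H (conv F F') := by
  classical
  simp only [el, conv, Finset.sum_mul, Finset.mul_sum, single_mul_single]
  have h1 : ∀ y : H, (single (y : G) (∑ x, F x * F' (x⁻¹ * y)) : MonoidAlgebra ℂ G) =
      ∑ x, single (y : G) (F x * F' (x⁻¹ * y)) := fun y =>
    map_sum (singleAddHom (R := ℂ) (y : G)) _ _
  simp only [h1]
  conv_lhs => rw [Finset.sum_comm]
  conv_rhs => rw [Finset.sum_comm]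
  refine Finset.sum_congr rfl fun x _ => Fintype.sum_equiv (Equiv.mulLeft x) _ _ fun y => ?_
  simp

theorem grpTr_el (χ : G → ℂ) (F : H → ℂ) : grpTr χ (el H F) = ∑ h : H, F h * χ h := by
  simp [el, grpTr_sum, grpTr_single]

theorem grpTr_el_mul_single (χ : G → ℂ) (F : H → ℂ) (t : G) :
    grpTr χ (el H F * single t 1) = ∑ h : H, F h * χ ((h : G) * t) := by
  simp [el, Finset.sum_mul, grpTr_sum, single_mul_single, grpTr_single]

/-- Elements supported on `H` commute with the normalizing elements fixing their coefficients. -/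
theorem el_commute_single {F : H → ℂ} {t : G} (ht : ∀ h : H, t * h * t⁻¹ ∈ H)
    (hF : ∀ h : H, F ⟨t * h * t⁻¹, ht h⟩ = F h) (a : ℂ) :
    el H F * single t a = single t a * el H F := by
  simp only [el, Finset.sum_mul, Finset.mul_sum, single_mul_single]
  have hbij : Function.Bijective (fun h : H => (⟨t * h * t⁻¹, ht h⟩ : H)) := by
    rw [Fintype.bijective_iff_injective_and_card]
    exact ⟨fun a b hab => Subtype.ext (by simpa using congrArg Subtype.val hab), rfl⟩
  refine (Fintype.sum_equiv (Equiv.ofBijective _ hbij) _ _ fun h => ?_).symm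
  rw [Equiv.ofBijective_apply, hF h, mul_comm a]
  congr 1
  show t * (h : G) = t * h * t⁻¹ * t
  group

/-! ### Local integral elements -/

/-- All coefficients are local integers. -/
def IntCoef (M : Ideal AlgInt) (x : MonoidAlgebra ℂ G) : Prop :=
  ∀ g, MemLocalRing M (x.coeff g)

variable {M : Ideal AlgInt} [M.IsPrime]

theorem intCoef_zero : IntCoef M (0 : MonoidAlgebra ℂ G) := fun g => by
  simpa using memLocalRing_zero

theorem intCoef_single (g : G) {a : ℂ} (ha : MemLocalRing M a) :
    IntCoef M (single g a : MonoidAlgebra ℂ G) := fun h => by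
  classical
  rw [coeff_single, Finsupp.single_apply]
  split_ifs
  exacts [ha, memLocalRing_zero]

theorem intCoef_one : IntCoef M (1 : MonoidAlgebra ℂ G) := by
  rw [one_def]; exact intCoef_single 1 memLocalRing_one

theorem intCoef_add {x y : MonoidAlgebra ℂ G} (hx : IntCoef M x) (hy : IntCoef M y) :
    IntCoef M (x + y) := fun g => by
  rw [coeff_add, Finsupp.add_apply]; exact memLocalRing_add (hx g) (hy g)

theorem intCoef_sub {x y : MonoidAlgebra ℂ G} (hx : IntCoef M x) (hy : IntCoef M y) :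
    IntCoef M (x - y) := fun g => by
  rw [coeff_sub, Finsupp.sub_apply]; exact memLocalRing_sub (hx g) (hy g)

theorem intCoef_sum {ι : Type*} (s : Finset ι) {x : ι → MonoidAlgebra ℂ G}
    (h : ∀ i ∈ s, IntCoef M (x i)) : IntCoef M (∑ i ∈ s, x i) :=
  Finset.sum_induction x _ (fun _ _ => intCoef_add) intCoef_zero h

theorem intCoef_mul {x y : MonoidAlgebra ℂ G} (hx : IntCoef M x) (hy : IntCoef M y) :
    IntCoef M (x * y) := by
  rw [← sum_single_coeff x, ← sum_single_coeff y, Finset.sum_mul]
  refine intCoef_sum _ fun a _ => ?_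
  rw [Finset.mul_sum]
  refine intCoef_sum _ fun b _ => ?_
  rw [single_mul_single]
  exact intCoef_single _ (memLocalRing_mul (hx a) (hy b))

theorem intCoef_pow {x : MonoidAlgebra ℂ G} (hx : IntCoef M x) : ∀ n : ℕ, IntCoef M (x ^ n)
  | 0 => by rw [pow_zero]; exact intCoef_one
  | n + 1 => by rw [pow_succ]; exact intCoef_mul (intCoef_pow hx n) hx

theorem intCoef_el {F : H → ℂ} (hF : ∀ h, MemLocalRing M (F h)) : IntCoef M (el H F) :=
  intCoef_sum _ fun h _ => intCoef_single _ (hF h)

theorem memLocalRing_grpTr {χ : G → ℂ} (hχ : ∀ g, MemLocalRing M (χ g)) {x : MonoidAlgebra ℂ G}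
    (hx : IntCoef M x) : MemLocalRing M (grpTr χ x) :=
  memLocalRing_sum _ fun g _ => memLocalRing_mul (hx g) (hχ g)

end Cfsg.Agent.Lib.Harada
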