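import Cfsg.Agent.Lib.Harada.Trace
import Mathlib.Dynamics.PeriodicPts.Lemmas

/-!
# Powers in the group algebra away from the regular elements

The coefficient sums of a `p`-power of an integral element over the singular elements are highly
divisible by `p`: rotate the words.
-/

set_option autoImplicit false
set_option linter.unusedSectionVars false
set_option linter.style.haveILetI false

namespace Cfsg.Agent.Lib.Harada

open Cfsg Cfsg.Agent.Lib.Characters Cfsg.Agent.Lib.Blocks MonoidAlgebra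

universe u

/-- `x` is `p`-regular modulo `L`. -/
def RegMod {G : Type u} [Group G] (p : ℕ) (L : Subgroup G) (x : G) : Prop :=
  ∃ m : ℕ, ¬ p ∣ m ∧ x ^ m ∈ L

variable {G : Type u} [Group G] [Fintype G]

theorem regMod_pow_p_part {p : ℕ} (hp : p.Prime) (L : Subgroup G) (x : G) {i : ℕ}
    (hi : (Nat.card G).factorization p ≤ i) : RegMod p L (x ^ p ^ i) := by
  refine ⟨Nat.card G / p ^ (Nat.card G).factorization p,
    Nat.not_dvd_ordCompl hp Nat.card_pos.ne', ?_⟩
  obtain ⟨j, rfl⟩ := Nat.exists_eq_add_of_le hi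
  rw [← pow_mul, pow_add, mul_comm (p ^ _) (p ^ j), mul_assoc,
    Nat.ordProj_mul_ordCompl_eq_self, mul_comm, pow_mul, pow_card_eq_one', one_pow]
  exact one_mem L

theorem regMod_conj {p : ℕ} (L : Subgroup G) [L.Normal] {x : G} (a : G) :
    RegMod p L (a * x * a⁻¹) ↔ RegMod p L x := by
  constructor
  · rintro ⟨m, hm, h⟩
    rw [conj_pow] at h
    refine ⟨m, hm, ?_⟩
    have := Subgroup.Normal.conj_mem inferInstance _ h a⁻¹
    simpa [mul_assoc] using this
  · rintro ⟨m, hm, h⟩
    exact ⟨m, hm, by rw [conj_pow]; exact Subgroup.Normal.conj_mem inferInstance _ h a⟩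

/-- Expansion of a power as a sum over words. -/
theorem pow_eq_sum_words (x : MonoidAlgebra ℂ G) (n : ℕ) :
    x ^ n = ∑ w : Fin n → G, single ((List.ofFn w).prod) (∏ i, x.coeff (w i)) := by
  induction n with
  | zero => simp [one_def]
  | succ n ih =>
    rw [pow_succ', ih, ← (Fin.consEquiv fun _ => G).sum_comp, Fintype.sum_prod_type]
    conv_lhs => rw [← sum_single_coeff x, Finset.sum_mul]
    refine Finset.sum_congr rfl fun a _ => ?_
    rw [Finset.mul_sum]
    refine Finset.sum_congr rfl fun w _ => ?_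
    rw [single_mul_single]
    simp [List.ofFn_succ, Fin.prod_univ_succ]

variable {M : Ideal AlgInt} [M.IsPrime]

/-- A sum invariant under a map of `p`-power order and supported on long orbits. -/
theorem memLocalRing_sum_orbits {W : Type*} [Fintype W] {p k i : ℕ} (hp : p.Prime)
    (σ : W → W) (hσ : ∀ w, σ^[p ^ k] w = w) (Φ : W → ℂ) (hΦ : ∀ w, Φ (σ w) = Φ w)
    (hR : ∀ w, MemLocalRing M (Φ w)) (h0 : ∀ w, σ^[p ^ i] w = w → Φ w = 0) :
    MemLocalRing M ((∑ w, Φ w) / (p : ℂ) ^ (i + 1)) := by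
  classical
  let O : W → Finset W := fun w => (Finset.range (p ^ k)).image fun m => σ^[m] w
  have hmod : ∀ (w : W) (m : ℕ), σ^[m] w = σ^[m % p ^ k] w := fun w m =>
    ((Function.IsPeriodicPt.iterate_mod_apply (hσ w) m)).symm
  have hmem : ∀ w v, v ∈ O w ↔ ∃ m, σ^[m] w = v := fun w v => by
    simp only [O, Finset.mem_image, Finset.mem_range]
    exact ⟨fun ⟨m, _, h⟩ => ⟨m, h⟩,
      fun ⟨m, h⟩ => ⟨m % p ^ k, Nat.mod_lt _ (pow_pos hp.pos _), (hmod w m).symm.trans h⟩⟩
  have hback : ∀ w m, ∃ m', σ^[m'] (σ^[m] w) = w := fun w m =>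
    ⟨p ^ k - m % p ^ k, by
      rw [hmod w m, ← Function.iterate_add_apply,
        Nat.sub_add_cancel (Nat.mod_lt _ (pow_pos hp.pos _)).le, hσ]⟩
  have hfib : ∀ w v, O v = O w ↔ v ∈ O w := fun w v => by
    refine ⟨fun h => h ▸ (hmem v v).2 ⟨0, rfl⟩, fun hv => ?_⟩
    obtain ⟨m, rfl⟩ := (hmem w v).1 hv
    ext z
    rw [hmem, hmem]
    constructor
    · rintro ⟨a, rfl⟩; exact ⟨a + m, Function.iterate_add_apply _ _ _ _⟩
    · rintro ⟨a, rfl⟩
      obtain ⟨m', hm'⟩ := hback w m
      exact ⟨a + m', by rw [Function.iterate_add_apply, hm']⟩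
  have hconst : ∀ w, ∀ v ∈ O w, Φ v = Φ w := fun w v hv => by
    obtain ⟨m, rfl⟩ := (hmem w v).1 hv
    induction m with
    | zero => rfl
    | succ m ih => rw [Function.iterate_succ_apply', hΦ, ih ((hmem w _).2 ⟨m, rfl⟩)]
  rw [← Finset.sum_fiberwise_of_maps_to (g := O) (t := Finset.univ.image O)
    (fun w _ => Finset.mem_image_of_mem _ (Finset.mem_univ w)), Finset.sum_div]
  refine memLocalRing_sum _ fun o ho => ?_
  obtain ⟨w, -, rfl⟩ := Finset.mem_image.1 ho
  rw [show (Finset.univ.filter fun v => O v = O w) = O w by ext v; simp [hfib w v],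
    Finset.sum_congr rfl (hconst w), Finset.sum_const, nsmul_eq_mul]
  by_cases hz : Φ w = 0
  · simp [hz, memLocalRing_zero]
  set per := Function.minimalPeriod σ w with hper
  have hperdvd : per ∣ p ^ k := Function.IsPeriodicPt.minimalPeriod_dvd (hσ w)
  obtain ⟨e, hek, he⟩ := (Nat.dvd_prime_pow hp).1 hperdvd
  have hcard : (O w).card = per := by
    have : O w = (Finset.range per).image fun m => σ^[m] w := by
      ext v
      rw [hmem, Finset.mem_image]
      constructor
      · rintro ⟨m, rfl⟩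
        exact ⟨m % per, Finset.mem_range.2 (Nat.mod_lt _ (he ▸ pow_pos hp.pos _)),
          Function.iterate_mod_minimalPeriod_eq⟩
      · rintro ⟨m, -, rfl⟩; exact ⟨m, rfl⟩
    rw [this, Finset.card_image_of_injOn, Finset.card_range]
    intro a ha b hb h
    exact Function.iterate_injOn_Iio_minimalPeriod (by simpa using ha) (by simpa using hb) h
  have hie : i + 1 ≤ e := by
    by_contra hlt
    refine hz (h0 w (Function.isPeriodicPt_iff_minimalPeriod_dvd.2 ?_))
    show per ∣ p ^ i
    rw [he]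
    exact pow_dvd_pow p (by omega)
  obtain ⟨j, rfl⟩ := Nat.exists_eq_add_of_le hie
  rw [hcard, he, Nat.cast_pow, pow_add, mul_assoc, mul_div_cancel_left₀ _
    (pow_ne_zero _ (Nat.cast_ne_zero.2 hp.ne_zero))]
  exact memLocalRing_mul (memLocalRing_pow (memLocalRing_natCast p) j) (hR w)

/-- Shift a word cyclically. -/
def rotWord {α : Type*} {q : ℕ} (hq : 0 < q) (w : Fin q → α) : Fin q → α :=
  fun i => w ⟨(i + 1) % q, Nat.mod_lt _ hq⟩

theorem rotWord_iterate {α : Type*} {q : ℕ} (hq : 0 < q) (w : Fin q → α) (m : ℕ) (i : Fin q) :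
    (rotWord hq)^[m] w i = w ⟨(i + m) % q, Nat.mod_lt _ hq⟩ := by
  induction m generalizing i with
  | zero => simp [Nat.mod_eq_of_lt i.2]
  | succ m ih =>
    rw [Function.iterate_succ_apply', rotWord, ih]
    congr 1
    apply Fin.ext
    simp [Nat.add_assoc, Nat.add_comm 1 m]

theorem prod_rotWord {q : ℕ} (hq : 0 < q) (w : Fin q → G) :
    ∃ a : G, (List.ofFn (rotWord hq w)).prod = a * (List.ofFn w).prod * a⁻¹ := by
  obtain ⟨n, rfl⟩ : ∃ n, q = n + 1 := ⟨q - 1, by omega⟩
  refine ⟨(w 0)⁻¹, ?_⟩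
  have h1 : (List.ofFn (rotWord hq w)).prod = (List.ofFn fun i : Fin n => w i.succ).prod * w 0 := by
    rw [List.ofFn_succ', List.concat_eq_append, List.prod_append, List.prod_singleton]
    congr 1
    · congr 2
      funext i
      rw [rotWord]
      congr 1
      apply Fin.ext
      simp [Nat.mod_eq_of_lt (Nat.succ_lt_succ i.2)]
    · rw [rotWord]
      congr 1
      apply Fin.ext
      simp
  rw [h1, List.ofFn_succ, List.prod_cons]
  group

/-- **Singular coefficient sums of `p`-powers.** -/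
theorem memLocalRing_grpTr_pow_singular {p : ℕ} (hp : p.Prime) (L : Subgroup G)
    {x : MonoidAlgebra ℂ G} (hx : IntCoef M x) {F : G → ℂ} (hF : IsClassFunction G F)
    (hFR : ∀ g, MemLocalRing M (F g)) (hF0 : ∀ g, RegMod p L g → F g = 0) {k : ℕ}
    (hk : (Nat.card G).factorization p ≤ k) :
    MemLocalRing M (grpTr F (x ^ p ^ k) / (p : ℂ) ^ (k - (Nat.card G).factorization p + 1)) := by
  classical
  set a := (Nat.card G).factorization p with ha
  set i := k - a with hi
  have hq : 0 < p ^ k := pow_pos hp.pos k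
  rw [pow_eq_sum_words, grpTr_sum]
  refine memLocalRing_sum_orbits (k := k) hp (rotWord hq) (fun w => funext fun j => ?_) _
    (fun w => ?_) (fun w => ?_) (fun w hw => ?_)
  · rw [rotWord_iterate]
    congr 1
    apply Fin.ext
    simp [Nat.mod_eq_of_lt j.2]
  · simp only [grpTr_single]
    congr 1
    · refine Fintype.prod_bijective (fun j : Fin (p ^ k) => (⟨(j + 1) % p ^ k, Nat.mod_lt _ hq⟩ : Fin (p ^ k)))
        ?_ _ _ fun j => rfl
      rw [Fintype.bijective_iff_injective_and_card]
      refine ⟨fun u v huv => Fin.ext ?_, rfl⟩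
      have h := congrArg Fin.val huv
      simp only at h
      have h2 : (u : ℕ) % p ^ k = (v : ℕ) % p ^ k := Nat.ModEq.add_right_cancel' 1 h
      rwa [Nat.mod_eq_of_lt u.2, Nat.mod_eq_of_lt v.2] at h2
    · obtain ⟨c, hc⟩ := prod_rotWord hq w
      rw [hc, hF]
  · rw [grpTr_single]
    exact memLocalRing_mul (memLocalRing_prod _ fun j _ => hx _) (hFR _)
  · rw [grpTr_single]
    refine mul_eq_zero_of_right _ (hF0 _ ?_)
    have hik : i ≤ k := Nat.sub_le _ _
    have hsplit : p ^ k = p ^ (k - i) * p ^ i := by rw [← pow_add, Nat.sub_add_cancel hik]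
    rw [List.ofFn_congr hsplit w, List.ofFn_mul, List.prod_flatten, List.map_ofFn]
    have hconst : ∀ (u : Fin (p ^ (k - i))) (v : Fin (p ^ i)) (h : u.1 * p ^ i + v.1 < p ^ k),
        w ⟨u.1 * p ^ i + v.1, h⟩ = w ⟨v.1, lt_of_le_of_lt (Nat.le_add_left _ _) h⟩ := by
      intro u v h
      have hit : ∀ m : ℕ, (rotWord hq)^[p ^ i * m] w = w := fun m => by
        rw [Function.iterate_mul]
        exact Function.iterate_fixed hw m
      conv_rhs => rw [← hit u.1, rotWord_iterate]
      congr 1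
      apply Fin.ext
      have hlt : v.1 + p ^ i * u.1 < p ^ k := by rw [mul_comm, add_comm]; exact h
      simp only [Nat.mod_eq_of_lt hlt]
      ring
    obtain ⟨blk, hblk⟩ : ∃ blk : List G, ∀ u : Fin (p ^ (k - i)),
        (List.ofFn fun v : Fin (p ^ i) => w (Fin.cast hsplit.symm ⟨u.1 * p ^ i + v.1,
          by
            calc u.1 * p ^ i + v.1 < u.1 * p ^ i + p ^ i := Nat.add_lt_add_left v.2 _
              _ = (u.1 + 1) * p ^ i := (Nat.succ_mul _ _).symm
              _ ≤ p ^ (k - i) * p ^ i := Nat.mul_le_mul_right _ u.2⟩)) = blk :=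
      ⟨List.ofFn fun v : Fin (p ^ i) => w ⟨v.1, lt_of_lt_of_le v.2 (Nat.pow_le_pow_right hp.pos hik)⟩,
        fun u => congrArg List.ofFn (funext fun v => hconst u v _)⟩
    rw [show (List.prod ∘ _) = fun _ : Fin (p ^ (k - i)) => blk.prod from
      funext fun u => congrArg List.prod (hblk u), List.ofFn_const, List.prod_replicate]
    refine regMod_pow_p_part hp L _ ?_
    omega

end Cfsg.Agent.Lib.Harada
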